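import Mathlib
import Cfsg.Agent.Omega.Lie.OutT
import Cfsg.Agent.Schreier.SmallSylow
import Cfsg.Agent.S0215

/-!
# `OutNil` for simple groups with small Sylow 2-subgroups

* `inner_of_cent` : `L` simple with abelian Sylow 2-subgroup `S`; an automorphism of 2-power order centralising `S` is
  inner (Glauberman's `Z*`-theorem and coprime action);
* `outNil_four`, `outNil_eight` : `|S| = 4`, or `|S| = 8` with `S` elementary abelian.
-/

set_option autoImplicit false

namespace Cfsg.Agent.Omega.Lie.OutT.Small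

open Subgroup
open Cfsg.Agent.Schreier.Basic (conj_range_normal)
open Cfsg.Agent.Schreier.SmallSylow Cfsg.Agent.Schreier.Tools3

/-! ### The norm -/

/-- If the abelian Sylow 2-subgroup `R` is not contained in `I ≥ G'`, then `R` has an element `≠ 1` which is central
in `N(R)`. -/
theorem exists_central {G : Type*} [Group G] [Finite G] (I : Subgroup G)
    (hQ : ∀ a b : G, a * b * a⁻¹ * b⁻¹ ∈ I) (R : Sylow 2 G) (hab : ∀ a ∈ R, ∀ b ∈ R, a * b = b * a)
    (hR : ¬ (R : Subgroup G) ≤ I) :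
    ∃ z ∈ R, z ≠ 1 ∧ ∀ n ∈ normalizer ((R : Subgroup G) : Set G), n * z = z * n := by
  classical
  let _ : CommGroup (R : Subgroup G) := { (inferInstance : Group (R : Subgroup G)) with
    mul_comm := fun a b => Subtype.ext (hab a a.2 b b.2) }
  obtain ⟨x, hx, hxI⟩ := Set.not_subset.1 hR
  change x ∈ (R : Subgroup G) at hx
  set A := (act (R : Subgroup G)).range with hA
  have hAodd : Odd (Nat.card A) := by
    have h1 : (R : Subgroup G).subgroupOf (normalizer ((R : Subgroup G) : Set G)) ≤ (act (R : Subgroup G)).ker := by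
      intro n hn
      rw [MonoidHom.mem_ker]
      apply MulEquiv.ext
      intro e
      apply Subtype.ext
      have hnT : (n : G) ∈ (R : Subgroup G) := mem_subgroupOf.1 hn
      rw [act_apply, MulAut.one_apply, hab n hnT e e.2]
      group
    have h2 : Nat.card A = (act (R : Subgroup G)).ker.index := by
      rw [index_ker]
    rw [h2]
    have h3 := index_dvd_of_le h1
    have h5 : (R : Subgroup G).relIndex (normalizer ((R : Subgroup G) : Set G)) ∣ (R : Subgroup G).index :=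
      relIndex_dvd_index_of_le le_normalizer
    have h6 : Odd (R : Subgroup G).index := by
      rw [← Nat.not_even_iff_odd, even_iff_two_dvd]
      exact R.not_dvd_index
    exact Odd.of_dvd_nat (Odd.of_dvd_nat h6 h5) h3
  have : Fintype A := Fintype.ofFinite A
  set z : (R : Subgroup G) := ∏ a : A, (a : MulAut (R : Subgroup G)) ⟨x, hx⟩ with hz
  -- `z` is congruent to a power of `x`
  have h1 : z * (⟨x, hx⟩ : (R : Subgroup G))⁻¹ ^ Nat.card A ∈ I.subgroupOf (R : Subgroup G) := by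
    have e1 : z * (⟨x, hx⟩ : (R : Subgroup G))⁻¹ ^ Nat.card A =
        ∏ a : A, ((a : MulAut (R : Subgroup G)) ⟨x, hx⟩ * (⟨x, hx⟩ : (R : Subgroup G))⁻¹) := by
      rw [Finset.prod_mul_distrib, Finset.prod_const, Finset.card_univ, Nat.card_eq_fintype_card]
    rw [e1]
    refine _root_.prod_mem fun a _ => ?_
    obtain ⟨_, n, rfl⟩ := a
    rw [mem_subgroupOf]
    exact hQ n x
  refine ⟨z, z.2, ?_, ?_⟩
  · intro hz1
    have hz1' : z = 1 := Subtype.ext hz1
    rw [hz1', one_mul, inv_pow, inv_mem_iff, mem_subgroupOf] at h1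
    have h2 : x ^ Nat.card A ∈ I := h1
    obtain ⟨k, hk⟩ := R.2 ⟨x, hx⟩
    have h3 : x ^ 2 ^ k = 1 := congrArg Subtype.val hk
    apply hxI
    have hcop : (Nat.card A).Coprime (2 ^ k) := (Nat.Coprime.pow_left k (Nat.coprime_two_left.2 hAodd)).symm
    have h4 : x ^ (2 ^ k : ℕ) ∈ I := by rw [h3]; exact I.one_mem
    have h5 := Nat.gcd_eq_gcd_ab (Nat.card A) (2 ^ k)
    rw [Nat.Coprime.gcd_eq_one hcop] at h5
    have h6 : x = (x ^ Nat.card A) ^ (Nat.card A).gcdA (2 ^ k) * (x ^ 2 ^ k) ^ (Nat.card A).gcdB (2 ^ k) := by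
      rw [← zpow_natCast, ← zpow_natCast, ← zpow_mul, ← zpow_mul, ← zpow_add, ← h5]
      simp
    show x ∈ I
    rw [h6]
    exact I.mul_mem (I.zpow_mem h2 _) (I.zpow_mem h4 _)
  · intro n hn
    have h2 : (act (R : Subgroup G) ⟨n, hn⟩) z = z := by
      rw [hz, map_prod]
      refine Fintype.prod_equiv (Equiv.mulLeft (⟨act (R : Subgroup G) ⟨n, hn⟩, ⟨_, rfl⟩⟩ : A)) _ _ fun a => ?_
      rfl
    have h3 := congrArg Subtype.val h2
    rw [act_apply] at h3
    exact mul_inv_eq_iff_eq_mul.1 h3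

/-- **The `Z*` argument.** -/
theorem sylow_le {G : Type*} [Group G] [Finite G] (I : Subgroup G) (hQ : ∀ a b : G, a * b * a⁻¹ * b⁻¹ ∈ I)
    (hcent : ∀ z : G, (∀ g ∈ I, z * g = g * z) → z = 1)
    (hodd : ∀ N : Subgroup G, N.Normal → Odd (Nat.card N) → ∀ g ∈ N, g ∈ I → g = 1)
    (R : Sylow 2 G) (hab : ∀ a ∈ R, ∀ b ∈ R, a * b = b * a) : (R : Subgroup G) ≤ I := by
  by_contra hR
  have : Fact (Nat.Prime 2) := ⟨Nat.prime_two⟩
  obtain ⟨z, hzR, hz1, hzN⟩ := exists_central I hQ R hab hR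
  -- an involution
  obtain ⟨u, hu2, m, hum⟩ : ∃ u : G, orderOf u = 2 ∧ ∃ m : ℕ, u = z ^ m := by
    obtain ⟨k, hk⟩ := R.2 ⟨z, hzR⟩
    have h3 : z ^ 2 ^ k = 1 := congrArg Subtype.val hk
    have h4 : orderOf z ∣ 2 ^ k := orderOf_dvd_of_pow_eq_one h3
    obtain ⟨j, -, hj⟩ := (Nat.dvd_prime_pow Nat.prime_two).1 h4
    have hj0 : j ≠ 0 := by
      rintro rfl
      rw [pow_zero, orderOf_eq_one_iff] at hj
      exact hz1 hj
    refine ⟨z ^ (2 ^ (j - 1)), ?_, _, rfl⟩
    have e : orderOf z = 2 ^ (j - 1) * 2 := by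
      rw [hj, ← pow_succ]
      congr 1
      omega
    rw [orderOf_pow_of_dvd (by positivity) ⟨2, e⟩, e, Nat.mul_div_cancel_left _ (by positivity)]
  have huR : u ∈ R := by rw [hum]; exact (R : Subgroup G).pow_mem hzR m
  have huN : ∀ n ∈ normalizer ((R : Subgroup G) : Set G), n * u = u * n := by
    intro n hn
    rw [hum]
    exact (show Commute n z from hzN n hn).pow_right m
  have hcomm : IsMulCommutative (R : Subgroup G) := ⟨⟨fun a b => Subtype.ext (hab a a.2 b b.2)⟩⟩
  have hiso : ∀ g : G, g * u * g⁻¹ ∈ R → g * u * g⁻¹ = u := by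
    intro g hg
    have hg' : g⁻¹⁻¹ * u * g⁻¹ ∈ (R : Subgroup G) := by rw [inv_inv]; exact hg
    obtain ⟨n, hn, h1⟩ := Sylow.conj_eq_normalizer_conj_of_mem R u g⁻¹ huR hg'
    rw [inv_inv] at h1
    rw [h1, mul_assoc, ← huN n hn]
    group
  obtain ⟨N, hN, hNo, hNc⟩ := Cfsg.Agent.S0215.result R u hu2 huR hiso
  have hu1 : u = 1 := by
    apply hcent
    intro g hg
    have h1 : u * g * u⁻¹ * g⁻¹ ∈ I := hQ u g
    have h2 := hodd N hN hNo _ (hNc g) h1
    rw [mul_inv_eq_one, mul_inv_eq_iff_eq_mul] at h2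
    exact h2
  rw [hu1, orderOf_one] at hu2
  omega

/-! ### Automorphisms centralising the Sylow subgroup -/

section

variable {L : Type*} [Group L]

theorem conj_inj [IsSimpleGroup L] (hL : ¬ IsMulCommutative L) : Function.Injective (MulAut.conj : L →* MulAut L) := by
  rw [← MonoidHom.ker_eq_bot_iff]
  rcases (inferInstance : ((MulAut.conj : L →* MulAut L).ker).Normal).eq_bot_or_eq_top with h | h
  · exact h
  · exfalso
    apply hL
    refine ⟨⟨fun a b => ?_⟩⟩
    have h1 : a ∈ (MulAut.conj : L →* MulAut L).ker := by rw [h]; exact mem_top a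
    have h2 := DFunLike.congr_fun (MonoidHom.mem_ker.1 h1) b
    rw [MulAut.conj_apply, MulAut.one_apply, mul_inv_eq_iff_eq_mul] at h2
    exact h2

theorem conj_apply_eq (φ : MulAut L) (l : L) : MulAut.conj (φ l) = φ * MulAut.conj l * φ⁻¹ := by
  ext x
  simp [MulAut.conj_apply]

/-- **`L` simple with abelian Sylow 2-subgroup `S`: automorphisms of 2-power order centralising `S` are inner.** -/
theorem inner_of_cent [Finite L] [IsSimpleGroup L] (hL : ¬ IsMulCommutative L) (h2 : 2 ∣ Nat.card L) (S : Sylow 2 L)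
    (hab : ∀ a ∈ S, ∀ b ∈ S, a * b = b * a) {φ : MulAut L} {k : ℕ} (hφ : φ ^ 2 ^ k = 1)
    (hS : ∀ s ∈ S, φ s = s) : φ ∈ (MulAut.conj : L →* MulAut L).range := by
  have : Fact (Nat.Prime 2) := ⟨Nat.prime_two⟩
  have hinj := conj_inj hL
  have hI := conj_range_normal L
  set I := (MulAut.conj : L →* MulAut L).range with hIdef
  set G1 : Subgroup (MulAut L) := I ⊔ zpowers φ with hG1
  have hI1 : I ≤ G1 := le_sup_left
  have hφ1 : zpowers φ ≤ G1 := le_sup_right
  have hdec : ∀ g ∈ G1, ∃ l : L, ∃ w ∈ zpowers φ, MulAut.conj l * w = g := by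
    intro g hg
    obtain ⟨_, ⟨l, rfl⟩, w, hw, e⟩ := mem_sup_of_normal_left.1 hg
    exact ⟨l, w, hw, e⟩
  have hwS : ∀ w ∈ zpowers φ, ∀ s ∈ S, Commute w (MulAut.conj s) := by
    intro w hw s hs
    obtain ⟨j, rfl⟩ := mem_zpowers_iff.1 hw
    refine Commute.zpow_left ?_ j
    have h1 := conj_apply_eq φ s
    rw [hS s hs] at h1
    exact (eq_mul_inv_iff_mul_eq.1 h1).symm
  have hww : ∀ w ∈ zpowers φ, ∀ w' ∈ zpowers φ, Commute w w' := by
    intro w hw w' hw'
    obtain ⟨j, rfl⟩ := mem_zpowers_iff.1 hw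
    obtain ⟨j', rfl⟩ := mem_zpowers_iff.1 hw'
    exact ((Commute.refl φ).zpow_left j).zpow_right j'
  -- the 2-subgroup
  set R0 : Subgroup (MulAut L) := (S : Subgroup L).map MulAut.conj ⊔ zpowers φ with hR0
  have hp1 : IsPGroup 2 ((S : Subgroup L).map (MulAut.conj : L →* MulAut L)) := S.2.map _
  have hp2 : IsPGroup 2 (zpowers φ) := by
    rintro ⟨w, hw⟩
    obtain ⟨j, rfl⟩ := mem_zpowers_iff.1 hw
    refine ⟨k, Subtype.ext ?_⟩
    show (φ ^ j) ^ 2 ^ k = 1
    rw [← zpow_natCast, ← zpow_mul, mul_comm, zpow_mul, zpow_natCast, hφ, one_zpow]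
  have hp0 : IsPGroup 2 R0 := by
    refine hp1.to_sup_of_normal_left' hp2 ?_
    intro w hw
    rw [mem_normalizer_iff]
    intro x
    constructor
    · rintro ⟨s, hs, rfl⟩
      refine ⟨s, hs, ?_⟩
      rw [(hwS w hw s hs).eq]
      group
    · rintro ⟨s, hs, e⟩
      refine ⟨s, hs, ?_⟩
      have h1 : x = w⁻¹ * MulAut.conj s * w := by rw [e]; group
      rw [h1, mul_assoc, ← (hwS w hw s hs).eq]
      group
  have hR0G : R0 ≤ G1 := sup_le ((map_le_range _ _).trans hI1) hφ1
  obtain ⟨R, hR⟩ := (hp0.comap_subtype (K := G1)).exists_le_sylow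
  -- `R ∩ I` is the image of `S`
  have hQ : ∀ l : L, ∀ hl : MulAut.conj l ∈ G1, (⟨MulAut.conj l, hl⟩ : G1) ∈ R → l ∈ S := by
    set Q : Subgroup L := ((R : Subgroup G1).map G1.subtype).comap MulAut.conj with hQdef
    have hQp : IsPGroup 2 Q := (R.2.map _).comap_of_injective _ hinj
    have hSQ : (S : Subgroup L) ≤ Q := by
      intro s hs
      have h1 : MulAut.conj s ∈ R0 := (le_sup_left : _ ≤ R0) ⟨s, hs, rfl⟩
      exact ⟨⟨MulAut.conj s, hR0G h1⟩, hR h1, rfl⟩
    have hQS := S.3 hQp hSQ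
    intro l hl hlR
    have h1 : l ∈ Q := ⟨⟨MulAut.conj l, hl⟩, hlR, rfl⟩
    rw [hQS] at h1
    exact h1
  have hRdec : ∀ r ∈ R, ∃ s ∈ S, ∃ w ∈ zpowers φ, MulAut.conj s * w = r.1 := by
    intro r hr
    obtain ⟨l, w, hw, e⟩ := hdec r.1 r.2
    refine ⟨l, ?_, w, hw, e⟩
    have hw1 : (⟨w, hφ1 hw⟩ : G1) ∈ R := hR ((le_sup_right : _ ≤ R0) hw)
    have h1 : r * (⟨w, hφ1 hw⟩ : G1)⁻¹ ∈ (R : Subgroup G1) := (R : Subgroup G1).mul_mem hr ((R : Subgroup G1).inv_mem hw1)
    have h2 : r * (⟨w, hφ1 hw⟩ : G1)⁻¹ = ⟨MulAut.conj l, hI1 ⟨l, rfl⟩⟩ := by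
      apply Subtype.ext
      show r.1 * w⁻¹ = MulAut.conj l
      rw [← e]; group
    rw [h2] at h1
    exact hQ l _ h1
  have hRab : ∀ a ∈ R, ∀ b ∈ R, a * b = b * a := by
    intro a ha b hb
    obtain ⟨s, hs, w, hw, e⟩ := hRdec a ha
    obtain ⟨s', hs', w', hw', e'⟩ := hRdec b hb
    apply Subtype.ext
    show a.1 * b.1 = b.1 * a.1
    rw [← e, ← e']
    have h1 : Commute (MulAut.conj s) (MulAut.conj s') := by
      show MulAut.conj s * MulAut.conj s' = MulAut.conj s' * MulAut.conj s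
      rw [← map_mul, ← map_mul, hab s hs s' hs']
    exact (Commute.mul_left (h1.mul_right (hwS w' hw' s hs).symm)
      ((hwS w hw s' hs').mul_right (hww w hw w' hw'))).eq
  -- the `Z*` argument
  have key := sylow_le (I.subgroupOf G1) ?_ ?_ ?_ R hRab
  · have h1 : (⟨φ, hφ1 (mem_zpowers φ)⟩ : G1) ∈ R := hR ((le_sup_right : _ ≤ R0) (mem_zpowers φ))
    exact key h1
  · intro a b
    rw [mem_subgroupOf]
    obtain ⟨l, w, hw, e⟩ := hdec a.1 a.2
    obtain ⟨l', w', hw', e'⟩ := hdec b.1 b.2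
    show a.1 * b.1 * a.1⁻¹ * b.1⁻¹ ∈ I
    rw [← QuotientGroup.eq_one_iff]
    have h1 : (QuotientGroup.mk a.1 : MulAut L ⧸ I) = QuotientGroup.mk w := by
      rw [← e, QuotientGroup.mk_mul, (QuotientGroup.eq_one_iff (N := I) (MulAut.conj l)).2 ⟨l, rfl⟩, one_mul]
    have h2 : (QuotientGroup.mk b.1 : MulAut L ⧸ I) = QuotientGroup.mk w' := by
      rw [← e', QuotientGroup.mk_mul, (QuotientGroup.eq_one_iff (N := I) (MulAut.conj l')).2 ⟨l', rfl⟩, one_mul]
    rw [QuotientGroup.mk_mul, QuotientGroup.mk_mul, QuotientGroup.mk_mul, QuotientGroup.mk_inv, QuotientGroup.mk_inv,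
      h1, h2, ← QuotientGroup.mk_mul, ← QuotientGroup.mk_inv, ← QuotientGroup.mk_inv, ← QuotientGroup.mk_mul,
      ← QuotientGroup.mk_mul, (hww w hw w' hw').eq]
    have h3 : w' * w * w⁻¹ * w'⁻¹ = 1 := by group
    rw [h3, QuotientGroup.mk_one]
  · intro z hz
    apply Subtype.ext
    ext l
    show z.1 l = l
    apply hinj
    rw [conj_apply_eq]
    have h1 := congrArg Subtype.val (hz ⟨MulAut.conj l, hI1 ⟨l, rfl⟩⟩ ⟨l, rfl⟩)
    change z.1 * MulAut.conj l = MulAut.conj l * z.1 at h1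
    rw [h1]
    group
  · intro N hN hNo g hg hgI
    obtain ⟨l, hl⟩ := hgI
    set M : Subgroup L := (N.map G1.subtype).comap MulAut.conj with hM
    have hMn : M.Normal := by
      refine ⟨fun a ha x => ?_⟩
      obtain ⟨b, hb, e⟩ := ha
      refine ⟨⟨MulAut.conj x, hI1 ⟨x, rfl⟩⟩ * b * ⟨MulAut.conj x, hI1 ⟨x, rfl⟩⟩⁻¹, hN.conj_mem b hb _, ?_⟩
      show MulAut.conj x * b.1 * (MulAut.conj x)⁻¹ = MulAut.conj (x * a * x⁻¹)
      have e' : b.1 = MulAut.conj a := e
      rw [e', map_mul, map_mul, map_inv]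
    have hMo : Odd (Nat.card M) := by
      have h1 : Nat.card M ∣ Nat.card N := by
        have h3 : ∀ m : M, ∃ b : N, b.1.1 = MulAut.conj m.1 := fun m => by
          obtain ⟨b, hb, e⟩ := m.2
          exact ⟨⟨b, hb⟩, e⟩
        choose f hf using h3
        let F : M →* N :=
          { toFun := f
            map_one' := by
              apply Subtype.ext; apply Subtype.ext
              rw [hf]; simp
            map_mul' := fun a b => by
              apply Subtype.ext; apply Subtype.ext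
              show (f (a * b)).1.1 = (f a).1.1 * (f b).1.1
              rw [hf, hf, hf]; simp }
        refine Subgroup.card_dvd_of_injective F fun a b hab' => ?_
        apply Subtype.ext
        apply hinj
        rw [← hf, ← hf]
        exact congrArg (fun c : N => c.1.1) hab'
      exact Odd.of_dvd_nat hNo h1
    have hlM : l ∈ M := ⟨g, hg, hl.symm⟩
    rcases hMn.eq_bot_or_eq_top with h | h
    · rw [h, mem_bot] at hlM
      apply Subtype.ext
      rw [hlM, map_one] at hl
      exact hl.symm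
    · exfalso
      rw [h, card_top] at hMo
      rw [Nat.odd_iff] at hMo
      omega

end

/-! ### Sylow subgroups of order at most eight -/

/-- `A` of odd order divisible by 7 acting on `2³`; an involution normalising `A` is trivial. -/
theorem eight {V : Type*} [CommGroup V] [Finite V] (hpow : ∀ v : V, v ^ 2 = 1) (hc : Nat.card V = 8)
    (A : Subgroup (MulAut V)) (hAodd : Odd (Nat.card A)) (h7 : 7 ∣ Nat.card A) {ξ : MulAut V} (hξ : ξ * ξ = 1)
    (hn : ∀ a ∈ A, ξ * a * ξ⁻¹ ∈ A) : ξ = 1 := by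
  have : Fact (Nat.Prime 7) := ⟨by norm_num⟩
  have hc168 := card_mulAut_eight hpow hc
  have h21 : Nat.card A ∣ 21 := by
    have h1 : Nat.card A ∣ 168 := hc168 ▸ A.card_subgroup_dvd_card
    have h2 : (Nat.card A).Coprime 8 := by
      rw [show (8 : ℕ) = 2 ^ 3 by norm_num]
      exact Nat.Coprime.pow_right 3 (Nat.coprime_two_right.mpr hAodd)
    rw [show (168 : ℕ) = 8 * 21 by norm_num] at h1
    exact h2.dvd_of_dvd_mul_left h1
  -- the Sylow 7-subgroup of `A`
  have C : Sylow 7 A := default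
  have hCcard : Nat.card C = 7 := by
    have h1 : Nat.card (C : Subgroup A) ∣ 21 := (C : Subgroup A).card_subgroup_dvd_card.trans h21
    have h2 : 7 ∣ Nat.card (C : Subgroup A) := C.dvd_card_of_dvd_card h7
    obtain ⟨n, hn⟩ := C.2.exists_card_eq
    change Nat.card (C : Subgroup A) = 7
    rw [hn] at h1 h2 ⊢
    rcases n with _ | _ | n
    · norm_num at h2
    · norm_num
    · exfalso
      have h3 : 7 ^ 2 ∣ 21 := (pow_dvd_pow 7 (by omega)).trans h1
      revert h3
      decide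
  have hone : Nat.card (Sylow 7 A) = 1 := by
    have h1 : Nat.card (Sylow 7 A) ∣ 21 := (C.card_dvd_index.trans ⟨_, (C : Subgroup A).index_mul_card.symm⟩).trans h21
    have h2 := card_sylow_modEq_one 7 A
    have h3 : Nat.card (Sylow 7 A) ∈ Nat.divisors 21 := Nat.mem_divisors.2 ⟨h1, by norm_num⟩
    have h4 : Nat.divisors 21 = {1, 3, 7, 21} := by decide
    rw [h4] at h3
    simp only [Finset.mem_insert, Finset.mem_singleton] at h3
    rcases h3 with h | h | h | h
    · exact h
    all_goals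
      rw [h] at h2
      exfalso
      revert h2
      decide
  have hsub : Subsingleton (Sylow 7 A) := (Nat.card_eq_one_iff_unique.1 hone).1
  have hmemC : ∀ a : A, a ^ 7 = 1 → a ∈ C := by
    intro a ha
    have h1 : IsPGroup 7 (zpowers a) := by
      rintro ⟨w, hw⟩
      obtain ⟨j, rfl⟩ := mem_zpowers_iff.1 hw
      refine ⟨1, Subtype.ext ?_⟩
      show (a ^ j) ^ 7 ^ 1 = 1
      rw [pow_one, ← zpow_natCast, ← zpow_mul, mul_comm, zpow_mul]
      have : a ^ ((7 : ℕ) : ℤ) = 1 := by rw [zpow_natCast, ha]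
      rw [this, one_zpow]
    obtain ⟨Q, hQ⟩ := h1.exists_le_sylow
    rw [Subsingleton.elim Q C] at hQ
    exact hQ (mem_zpowers a)
  have hC7 : ∀ a ∈ C, a ^ 7 = 1 := by
    intro a ha
    have h1 : (⟨a, ha⟩ : (C : Subgroup A)) ^ Nat.card (C : Subgroup A) = 1 := pow_card_eq_one'
    have h2 : Nat.card (C : Subgroup A) = 7 := hCcard
    rw [h2] at h1
    exact congrArg Subtype.val h1
  -- fixed points
  have hfix : ∀ F : Subgroup V, F ≠ ⊥ → (∀ c ∈ C, ∀ v ∈ F, (c : MulAut V) v ∈ F) →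
      (∀ v ∈ F, (∀ c ∈ C, (c : MulAut V) v = v) → v = 1) → F = ⊤ := by
    intro F hF hinv hfp
    let _ : MulAction (C : Subgroup A) F :=
      { smul := fun c v => ⟨(c.1.1 : MulAut V) v.1, hinv c.1 c.2 v.1 v.2⟩
        one_smul := fun v => rfl
        mul_smul := fun c d v => rfl }
    have hmod := C.2.card_modEq_card_fixedPoints F
    have h1 : Nat.card (MulAction.fixedPoints (C : Subgroup A) F) = 1 := by
      rw [Nat.card_eq_one_iff_unique]
      refine ⟨⟨fun a b => ?_⟩, ⟨⟨1, fun c => Subtype.ext (map_one (c.1.1 : MulAut V))⟩⟩⟩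
      have hz : ∀ a : MulAction.fixedPoints (C : Subgroup A) F, a.1.1 = 1 := fun a =>
        hfp a.1.1 a.1.2 fun c hc => congrArg Subtype.val (a.2 ⟨c, hc⟩)
      apply Subtype.ext
      apply Subtype.ext
      rw [hz a, hz b]
    rw [h1] at hmod
    have h2 : Nat.card F ∣ 8 := hc ▸ F.card_subgroup_dvd_card
    have h3 : Nat.card F ∈ Nat.divisors 8 := Nat.mem_divisors.2 ⟨h2, by norm_num⟩
    have h4 : Nat.divisors 8 = {1, 2, 4, 8} := by decide
    rw [h4] at h3
    simp only [Finset.mem_insert, Finset.mem_singleton] at h3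
    rcases h3 with h | h | h | h
    · exact absurd (card_eq_one.1 h) hF
    · rw [h] at hmod; exfalso; revert hmod; decide
    · rw [h] at hmod; exfalso; revert hmod; decide
    · exact eq_top_of_card_eq F (by rw [h, hc])
  -- an element of `C` with a nontrivial fixed point is trivial
  have hfree : ∀ c ∈ C, ∀ v : V, v ≠ 1 → (c : MulAut V) v = v → c = 1 := by
    intro c hcC v hv hcv
    by_contra hc1
    have hzp : ∀ d ∈ C, d ∈ zpowers c := by
      have h1 : Nat.card (zpowers c) = 7 := by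
        rw [Nat.card_zpowers]
        exact orderOf_eq_prime (hC7 c hcC) hc1
      have h2 : zpowers c = (C : Subgroup A) :=
        eq_of_le_of_card_ge (by rw [zpowers_le]; exact hcC) (by rw [h1]; exact hCcard.le)
      intro d hd
      rw [h2]
      exact hd
    -- the fixed subgroup of `C`
    let F : Subgroup V :=
      { carrier := {v | ∀ d ∈ C, (d : MulAut V) v = v}
        mul_mem' := fun {a b} ha hb d hd => by rw [map_mul, ha d hd, hb d hd]
        one_mem' := fun d _ => map_one (d : MulAut V)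
        inv_mem' := fun {a} ha d hd => by rw [map_inv, ha d hd] }
    have hvF : v ∈ F := by
      intro d hd
      obtain ⟨j, rfl⟩ := mem_zpowers_iff.1 (hzp d hd)
      have h1 : c.1 ∈ MulAction.stabilizer (MulAut V) v := hcv
      have h2 := (MulAction.stabilizer (MulAut V) v).zpow_mem h1 j
      exact h2
    have hcardF : Nat.card F ≡ 1 [MOD 7] := by
      have hmod := C.2.card_modEq_card_fixedPoints V
      rw [hc] at hmod
      have h1 : Nat.card (MulAction.fixedPoints (C : Subgroup A) V) = Nat.card F := by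
        refine Nat.card_congr (Equiv.subtypeEquivRight fun w => ?_)
        exact ⟨fun h d hd => h ⟨d, hd⟩, fun h d => h d.1 d.2⟩
      rw [h1] at hmod
      exact hmod.symm.trans (by decide)
    have h2 : Nat.card F ∣ 8 := hc ▸ F.card_subgroup_dvd_card
    have h3 : Nat.card F ∈ Nat.divisors 8 := Nat.mem_divisors.2 ⟨h2, by norm_num⟩
    have h4 : Nat.divisors 8 = {1, 2, 4, 8} := by decide
    rw [h4] at h3
    simp only [Finset.mem_insert, Finset.mem_singleton] at h3
    rcases h3 with h | h | h | h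
    · rw [card_eq_one] at h
      rw [h, mem_bot] at hvF
      exact hv hvF
    · rw [h] at hcardF; revert hcardF; decide
    · rw [h] at hcardF; revert hcardF; decide
    · have hF : F = ⊤ := eq_top_of_card_eq F (by rw [h, hc])
      apply hc1
      apply Subtype.ext
      ext w
      have : w ∈ F := by rw [hF]; exact mem_top w
      exact this c hcC
  -- the fixed points of an involution
  have hinvol : ∀ η : MulAut V, η * η = 1 → ∀ F : Subgroup V, (∀ v, v ∈ F ↔ η v = v) → F.index ≤ 2 := by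
    intro η hη F hF
    let f : V →* V :=
      { toFun := fun v => v⁻¹ * η v
        map_one' := by simp
        map_mul' := fun a b => by
          rw [map_mul, mul_inv]
          exact mul_mul_mul_comm _ _ _ _ }
    have hker : f.ker = F := by
      ext v
      rw [MonoidHom.mem_ker, hF]
      show v⁻¹ * η v = 1 ↔ η v = v
      rw [inv_mul_eq_one, eq_comm]
    have hran : f.range ≤ F := by
      rintro _ ⟨v, rfl⟩
      rw [hF]
      show η (v⁻¹ * η v) = v⁻¹ * η v
      have h1 : η (η v) = v := DFunLike.congr_fun hη v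
      have h2 : ∀ w : V, w⁻¹ = w := fun w => by
        rw [inv_eq_iff_mul_eq_one, ← pow_two]; exact hpow w
      rw [map_mul, h1, map_inv, h2, h2, mul_comm]
    have h1 : F.index = Nat.card f.range := by rw [← hker, index_ker]
    have h2 : Nat.card f.range ≤ Nat.card F := card_le_of_le hran
    have h3 := F.card_mul_index
    rw [hc] at h3
    rw [← h1] at h2
    by_contra hcon
    push Not at hcon
    nlinarith
  have hxi : ξ⁻¹ = ξ := inv_eq_of_mul_eq_one_left hξ
  let Fx (η : MulAut V) : Subgroup V :=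
    { carrier := {v | η v = v}
      mul_mem' := fun {a b} ha hb => by
        show η (a * b) = a * b
        rw [map_mul, ha, hb]
      one_mem' := map_one η
      inv_mem' := fun {a} ha => by
        show η a⁻¹ = a⁻¹
        rw [map_inv, ha] }
  have hFx : ∀ η : MulAut V, ∀ v, v ∈ Fx η ↔ η v = v := fun η v => Iff.rfl
  have hidx := hinvol ξ hξ (Fx ξ) (hFx ξ)
  -- `ξ` centralises `C`
  have hcent : ∀ c ∈ C, ξ * (c : MulAut V) * ξ⁻¹ = c := by
    intro c hc'
    have hη : ((c : MulAut V) * ξ * (c : MulAut V)⁻¹) * ((c : MulAut V) * ξ * (c : MulAut V)⁻¹) = 1 := by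
      have e : ((c : MulAut V) * ξ * (c : MulAut V)⁻¹) * ((c : MulAut V) * ξ * (c : MulAut V)⁻¹) =
        (c : MulAut V) * (ξ * ξ) * (c : MulAut V)⁻¹ := by group
      rw [e, hξ]; group
    have hidx2 := hinvol _ hη (Fx _) (hFx _)
    have h1 : (Fx ξ ⊓ Fx ((c : MulAut V) * ξ * (c : MulAut V)⁻¹)).index ≤ 4 :=
      index_inf_le.trans (Nat.mul_le_mul hidx hidx2)
    obtain ⟨v, hv, hv1⟩ : ∃ v ∈ Fx ξ ⊓ Fx ((c : MulAut V) * ξ * (c : MulAut V)⁻¹), v ≠ 1 := by
      by_contra hcon
      push Not at hcon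
      have h2 : Fx ξ ⊓ Fx ((c : MulAut V) * ξ * (c : MulAut V)⁻¹) = ⊥ := (eq_bot_iff_forall _).2 hcon
      rw [h2, index_bot, hc] at h1
      omega
    -- the commutator
    have hcm : ξ * (c : MulAut V) * ξ⁻¹ * (c : MulAut V)⁻¹ ∈ A := A.mul_mem (hn c.1 c.2) (A.inv_mem c.2)
    have hb : (⟨ξ * (c : MulAut V) * ξ⁻¹, hn c.1 c.2⟩ : A) ∈ (C : Subgroup A) := by
      apply hmemC
      apply Subtype.ext
      show (ξ * (c : MulAut V) * ξ⁻¹) ^ 7 = 1
      rw [conj_pow]
      have : (c : MulAut V) ^ 7 = 1 := congrArg Subtype.val (hC7 c hc')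
      rw [this]; group
    have h3 : (⟨ξ * (c : MulAut V) * ξ⁻¹, hn c.1 c.2⟩ : A) * c⁻¹ ∈ (C : Subgroup A) :=
      (C : Subgroup A).mul_mem hb ((C : Subgroup A).inv_mem hc')
    have h4 := hfree _ h3 v hv1 ?_
    · have h5 := congrArg Subtype.val h4
      change ξ * (c : MulAut V) * ξ⁻¹ * (c : MulAut V)⁻¹ = 1 at h5
      exact mul_inv_eq_one.1 h5
    · show (ξ * (c : MulAut V) * ξ⁻¹ * (c : MulAut V)⁻¹) v = v
      have e : ξ * (c : MulAut V) * ξ⁻¹ * (c : MulAut V)⁻¹ = ξ * ((c : MulAut V) * ξ * (c : MulAut V)⁻¹) := by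
        rw [hxi]; group
      rw [e, MulAut.mul_apply]
      have h5 : ((c : MulAut V) * ξ * (c : MulAut V)⁻¹) v = v := hv.2
      rw [h5]
      exact hv.1
  -- end
  have htop : Fx ξ = ⊤ := by
    apply hfix
    · intro h
      rw [h, index_bot, hc] at hidx
      omega
    · intro c hc' v hv
      show ξ ((c : MulAut V) v) = (c : MulAut V) v
      have h1 := hcent c hc'
      rw [mul_inv_eq_iff_eq_mul] at h1
      have h2 := DFunLike.congr_fun h1 v
      rw [MulAut.mul_apply, MulAut.mul_apply] at h2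
      have h3 : ξ v = v := hv
      rw [h2, h3]
    · intro v _ hcv
      by_contra hv1
      obtain ⟨c, hc', hc1⟩ : ∃ c ∈ C, c ≠ 1 := by
        by_contra hcon
        push Not at hcon
        have h2 : (C : Subgroup A) = ⊥ := (eq_bot_iff_forall _).2 hcon
        have h3 : Nat.card (C : Subgroup A) = 7 := hCcard
        rw [h2, card_bot] at h3
        omega
      exact hc1 (hfree c hc' v hv1 (hcv c hc'))
  ext v
  have : v ∈ Fx ξ := by rw [htop]; exact mem_top v
  exact this

/-! ### The theorems -/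

section

variable {L : Type*} [Group L] [Finite L]

/-- a 2-group of automorphisms leaves a Sylow 2-subgroup invariant -/
theorem exists_sylow {X : Subgroup (MulAut L)} (hX : IsPGroup 2 X) :
    ∃ S : Sylow 2 L, ∀ x ∈ X, ∀ s ∈ S, x s ∈ S := by
  have : Fact (Nat.Prime 2) := ⟨Nat.prime_two⟩
  obtain ⟨S, hS⟩ := hX.nonempty_fixed_point_of_prime_not_dvd_card (Sylow 2 L) (not_dvd_card_sylow 2 L)
  refine ⟨S, fun x hx s hs => ?_⟩
  have h1 : (⟨x, hx⟩ : X) • S = S := hS ⟨x, hx⟩
  have h2 : (⟨x, hx⟩ : X) • s ∈ ((⟨x, hx⟩ : X) • S : Sylow 2 L) :=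
    Subgroup.smul_mem_pointwise_smul _ _ (S : Subgroup L) hs
  rw [h1] at h2
  exact h2

theorem isPGroup_of_sq {X : Subgroup (MulAut L)} (h : ∀ x ∈ X, x * x = 1) : IsPGroup 2 X := fun x =>
  ⟨1, Subtype.ext (by show x.1 ^ 2 ^ 1 = 1; rw [pow_one, pow_two]; exact h x.1 x.2)⟩

/-- The group induced by `N(S)` on `S`. -/
theorem card_act [IsSimpleGroup L] (hL : ¬ IsMulCommutative L) (T : Sylow 2 L)
    (hab : ∀ a ∈ T, ∀ b ∈ T, a * b = b * a) (hexp : ∀ a ∈ T, a * a = 1) (h8 : Nat.card T = 8) :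
    Odd (Nat.card (act (T : Subgroup L)).range) ∧ 7 ∣ Nat.card (act (T : Subgroup L)).range := by
  have h8' : Nat.card (T : Subgroup L) = 8 := h8
  let _ : CommGroup (T : Subgroup L) := { (inferInstance : Group (T : Subgroup L)) with
    mul_comm := fun a b => Subtype.ext (hab a a.2 b b.2) }
  have hc168 : Nat.card (MulAut (T : Subgroup L)) = 168 :=
    card_mulAut_eight (V := (T : Subgroup L))
      (fun x => by rw [pow_two]; exact Subtype.ext (hexp x x.2)) h8'
  set A := (act (T : Subgroup L)).range with hA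
  have hAodd : Odd (Nat.card A) := by
    have h1 : (T : Subgroup L).subgroupOf (Subgroup.normalizer ((T : Subgroup L) : Set L)) ≤
        (act (T : Subgroup L)).ker := by
      intro n hn
      rw [MonoidHom.mem_ker]
      apply MulEquiv.ext
      intro e
      apply Subtype.ext
      have hnT : (n : L) ∈ (T : Subgroup L) := Subgroup.mem_subgroupOf.1 hn
      rw [act_apply, MulAut.one_apply, hab n hnT e e.2]
      group
    have h2 : Nat.card A = (act (T : Subgroup L)).ker.index := by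
      rw [Subgroup.index_ker]
    rw [h2]
    have h3 := Subgroup.index_dvd_of_le h1
    have h5 : (T : Subgroup L).relIndex (Subgroup.normalizer ((T : Subgroup L) : Set L)) ∣
        (T : Subgroup L).index := Subgroup.relIndex_dvd_index_of_le Subgroup.le_normalizer
    have h6 : Odd (T : Subgroup L).index := by
      rw [← Nat.not_even_iff_odd, even_iff_two_dvd]
      exact T.not_dvd_index
    exact Odd.of_dvd_nat (Odd.of_dvd_nat h6 h5) h3
  refine ⟨hAodd, ?_⟩
  have hAdvd : Nat.card A ∣ 168 := hc168 ▸ A.card_subgroup_dvd_card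
  by_contra h7
  -- then `|A|` is 1 or 3
  have h3 : Nat.card A ∣ 3 := by
    have h1 : Nat.card A ∣ 168 := hAdvd
    have h2 : (Nat.card A).Coprime 56 := by
      rw [show (56 : ℕ) = 2 ^ 3 * 7 by norm_num]
      exact Nat.Coprime.mul_right (Nat.Coprime.pow_right 3 (Nat.coprime_two_right.mpr hAodd))
        ((Nat.Prime.coprime_iff_not_dvd (by norm_num)).2 h7).symm
    rw [show (168 : ℕ) = 56 * 3 by norm_num] at h1
    exact h2.dvd_of_dvd_mul_left h1
  have hp3 : IsPGroup 3 A := by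
    rcases (Nat.dvd_prime Nat.prime_three).1 h3 with h | h
    · exact IsPGroup.of_card (n := 0) (by rw [h]; rfl)
    · exact IsPGroup.of_card (n := 1) (by rw [h]; rfl)
  have : Fact (Nat.Prime 3) := ⟨Nat.prime_three⟩
  have hmod := hp3.card_modEq_card_fixedPoints (T : Subgroup L)
  rw [h8'] at hmod
  -- a nontrivial fixed point
  have h1 : Nat.card (MulAction.fixedPoints A (T : Subgroup L)) ≠ 1 := by
    intro h
    rw [h] at hmod
    revert hmod
    decide
  have hone : (1 : (T : Subgroup L)) ∈ MulAction.fixedPoints A (T : Subgroup L) := by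
    intro a
    exact map_one (a : MulAut (T : Subgroup L))
  obtain ⟨x, hx, hx1⟩ : ∃ x ∈ MulAction.fixedPoints A (T : Subgroup L), x ≠ 1 := by
    by_contra hcon
    push Not at hcon
    apply h1
    rw [Nat.card_eq_one_iff_unique]
    refine ⟨⟨fun a b => Subtype.ext ((hcon a a.2).trans (hcon b b.2).symm)⟩, ⟨⟨1, hone⟩⟩⟩
  apply hx1
  apply Subtype.ext
  apply eq_one_of_central_normalizer hL T hab x.2
  intro n hn
  have h2 := hx ⟨act (T : Subgroup L) ⟨n, hn⟩, ⟨n, hn⟩, rfl⟩
  have h3 : n * (x : L) * n⁻¹ = x := congrArg Subtype.val h2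
  rw [mul_inv_eq_iff_eq_mul] at h3
  exact h3

/-- **Sylow 2-subgroups elementary abelian of order 8.** -/
theorem outNil_eight [IsSimpleGroup L] (hL : ¬ IsMulCommutative L) (S₀ : Sylow 2 L) (h8 : Nat.card S₀ = 8)
    (hexp₀ : ∀ s ∈ S₀, s * s = 1) : OutNil L := by
  have : Fact (Nat.Prime 2) := ⟨Nat.prime_two⟩
  rw [outNil_iff]
  intro X T c x hx
  obtain ⟨S, hS⟩ := exists_sylow (isPGroup_of_sq c.sq)
  have e : (S : Subgroup L) ≃* (S₀ : Subgroup L) := Sylow.equiv S S₀
  have hc8 : Nat.card (S : Subgroup L) = 8 := (Nat.card_congr e.toEquiv).trans h8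
  have hexp : ∀ s ∈ S, s * s = 1 := by
    intro s hs
    have h1 : (⟨s, hs⟩ : (S : Subgroup L)) * ⟨s, hs⟩ = 1 := by
      apply e.injective
      rw [map_mul, map_one]
      exact Subtype.ext (hexp₀ _ (e ⟨s, hs⟩).2)
    exact congrArg Subtype.val h1
  have hinv : ∀ s ∈ S, s⁻¹ = s := fun s hs => inv_eq_of_mul_eq_one_left (hexp s hs)
  have hab : ∀ a ∈ S, ∀ b ∈ S, a * b = b * a := by
    intro a ha b hb
    have h1 := hinv _ ((S : Subgroup L).mul_mem ha hb)
    rw [mul_inv_rev, hinv a ha, hinv b hb] at h1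
    exact h1.symm
  have h2 : 2 ∣ Nat.card L := by
    refine Dvd.dvd.trans ?_ (S : Subgroup L).card_subgroup_dvd_card
    rw [hc8]; norm_num
  obtain ⟨hAo, hA7⟩ := card_act hL S hab hexp hc8
  let _ : CommGroup (S : Subgroup L) := { (inferInstance : Group (S : Subgroup L)) with
    mul_comm := fun a b => Subtype.ext (hab a a.2 b b.2) }
  have hxx : ∀ l : L, x (x l) = l := fun l => DFunLike.congr_fun (c.sq x hx) l
  let ξ : MulAut (S : Subgroup L) :=
    { toFun := fun s => ⟨x s.1, hS x hx s.1 s.2⟩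
      invFun := fun s => ⟨x s.1, hS x hx s.1 s.2⟩
      left_inv := fun s => Subtype.ext (hxx s.1)
      right_inv := fun s => Subtype.ext (hxx s.1)
      map_mul' := fun a b => Subtype.ext (map_mul x a.1 b.1) }
  have hξ2 : ξ * ξ = 1 := by
    apply MulEquiv.ext
    intro s
    exact Subtype.ext (hxx s.1)
  have hξi : ξ⁻¹ = ξ := inv_eq_of_mul_eq_one_left hξ2
  have hnorm : ∀ n ∈ normalizer ((S : Subgroup L) : Set L), x n ∈ normalizer ((S : Subgroup L) : Set L) := by
    intro n hn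
    rw [mem_normalizer_iff] at hn ⊢
    intro y
    have e1 : x (n * x y * n⁻¹) = x n * y * (x n)⁻¹ := by rw [map_mul, map_mul, map_inv, hxx]
    constructor
    · intro hy
      have h1 := hS x hx _ ((hn (x y)).1 (hS x hx y hy))
      rwa [e1] at h1
    · intro hy
      change x n * y * (x n)⁻¹ ∈ S at hy
      rw [← e1] at hy
      have h1 := hS x hx _ hy
      rw [hxx] at h1
      have h3 := hS x hx _ ((hn (x y)).2 h1)
      rwa [hxx] at h3
  have h1 : ξ = 1 := by
    refine eight (fun v => ?_) hc8 _ hAo hA7 hξ2 ?_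
    · rw [pow_two]; exact Subtype.ext (hexp v v.2)
    · rintro _ ⟨n, rfl⟩
      refine ⟨⟨x n.1, hnorm n.1 n.2⟩, ?_⟩
      rw [hξi]
      apply MulEquiv.ext
      intro s
      apply Subtype.ext
      show x n.1 * s.1 * (x n.1)⁻¹ = x (n.1 * x s.1 * n.1⁻¹)
      rw [map_mul, map_mul, map_inv, hxx]
  refine inner_of_cent hL h2 S hab (k := 1) (by rw [pow_one, pow_two]; exact c.sq x hx) fun s hs => ?_
  exact congrArg Subtype.val (DFunLike.congr_fun h1 (⟨s, hs⟩ : (S : Subgroup L)))

/-- **Sylow 2-subgroups of order 4.** -/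
theorem outNil_four [IsSimpleGroup L] (hL : ¬ IsMulCommutative L) (S₀ : Sylow 2 L) (h4 : Nat.card S₀ = 4) :
    OutNil L := by
  have : Fact (Nat.Prime 2) := ⟨Nat.prime_two⟩
  rw [outNil_iff]
  intro X T c
  obtain ⟨S, hS⟩ := exists_sylow (isPGroup_of_sq c.sq)
  have e : (S : Subgroup L) ≃* (S₀ : Subgroup L) := Sylow.equiv S S₀
  have hc4 : Nat.card (S : Subgroup L) = 4 := (Nat.card_congr e.toEquiv).trans h4
  have hcomm := IsPGroup.isMulCommutative_of_card_eq_prime_sq (p := 2) (G := (S : Subgroup L)) (by rw [hc4]; norm_num)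
  have hab : ∀ a ∈ S, ∀ b ∈ S, a * b = b * a := fun a ha b hb =>
    congrArg Subtype.val (hcomm.is_comm.comm (⟨a, ha⟩ : (S : Subgroup L)) ⟨b, hb⟩)
  have h2 : 2 ∣ Nat.card L := by
    refine Dvd.dvd.trans ?_ (S : Subgroup L).card_subgroup_dvd_card
    rw [hc4]; norm_num
  have hn := conj_range_normal L
  have hin : ∀ x ∈ X, (∀ s ∈ S, x s = s) → x ∈ (MulAut.conj : L →* MulAut L).range := fun x hx h =>
    inner_of_cent hL h2 S hab (k := 1) (by rw [pow_one, pow_two]; exact c.sq x hx) h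
  -- the action on the three points
  let Ω : Type _ := ↥(((S : Subgroup L) : Set L) \ {1})
  let _ : MulAction X Ω :=
    { smul := fun x s => ⟨x.1 s.1, hS x.1 x.2 s.1 s.2.1, fun h => s.2.2 (x.1.injective (by
        rw [Set.mem_singleton_iff.1 h, map_one]))⟩
      one_smul := fun s => rfl
      mul_smul := fun x y s => rfl }
  have hΩ : Nat.card Ω ≤ 3 := by
    show Nat.card ↥(((S : Subgroup L) : Set L) \ {1}) ≤ 3
    rw [Nat.card_coe_set_eq, Set.ncard_sdiff_singleton_of_mem (S : Subgroup L).one_mem, ← Nat.card_coe_set_eq]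
    change Nat.card (S : Subgroup L) - 1 ≤ 3
    rw [hc4]
  have : Finite Ω := inferInstanceAs (Finite ↥(((S : Subgroup L) : Set L) \ {1}))
  have := Fintype.ofFinite Ω
  rw [Nat.card_eq_fintype_card] at hΩ
  obtain ⟨ε⟩ : Nonempty (Ω ↪ Fin 3) := by
    rw [Function.Embedding.nonempty_iff_card_le]
    simpa using hΩ
  classical
  let g : Equiv.Perm Ω →* Equiv.Perm (Fin 3) := Equiv.Perm.viaEmbeddingHom ε
  have hg : Function.Injective g := Equiv.Perm.viaEmbeddingHom_injective ε
  let F : X →* Equiv.Perm (Fin 3) := g.comp (MulAction.toPermHom X Ω)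
  have hF : ∀ x : X, F x = 1 → x.1 ∈ (MulAut.conj : L →* MulAut L).range := by
    intro x hx
    refine hin x.1 x.2 fun s hs => ?_
    by_cases hs1 : s = 1
    · rw [hs1, map_one]
    have h1 : MulAction.toPermHom X Ω x = 1 := hg (by rw [map_one]; exact hx)
    have h3 := DFunLike.congr_fun h1 (⟨s, hs, hs1⟩ : Ω)
    exact congrArg Subtype.val h3
  have hF1 : ∀ x : X, x.1 ∉ (MulAut.conj : L →* MulAut L).range → F x ≠ 1 := fun x hx h => hx (hF x h)
  refine c.le_of_two' fun x hx y hy hxI hyI => ?_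
  refine hF (⟨x, hx⟩ * ⟨y, hy⟩) ?_
  rw [map_mul]
  refine Cfg.perm_three _ _ ?_ ?_ ?_ (hF1 ⟨x, hx⟩ hxI) (hF1 ⟨y, hy⟩ hyI)
  · rw [← map_mul, ← map_one F]; exact congrArg F (Subtype.ext (c.sq x hx))
  · rw [← map_mul, ← map_one F]; exact congrArg F (Subtype.ext (c.sq y hy))
  · rw [← map_mul, ← map_mul]; exact congrArg F (Subtype.ext (c.comm hx hy))

end

end Cfsg.Agent.Omega.Lie.OutT.Small
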