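import Mathlib
import Cfsg.Agent.Omega.Lie.Out.Small
import Cfsg.Agent.Omega.KFactsZS
import Cfsg.Agent.Omega.Lie.PairJOne
import Cfsg.Agent.SmallSimple.PSLTwoPart
import Cfsg.Agent.S1073
import Cfsg.Agent.S1152
import Cfsg.Agent.S1157

/-!
# `OutNil` for `L₂(r)`, `r ≡ 3, 5 mod 8`, for `J₁` and for `²G₂(r)`
-/

set_option autoImplicit false

namespace Cfsg.Agent.Omega.Lie.OutT

open Cfsg.Agent.Omega.Lie.OutT.Small

/-- **`²G₂(3^(2m+1))`.** -/
theorem outNil_ree {K : Type*} [Group K] (h : Cfsg.Lie.IsoRee K) : OutNil K := by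
  classical
  obtain ⟨F, _, _, m, hm, hF, ⟨e⟩⟩ := h
  refine OutNil.of_equiv e.symm ?_
  obtain ⟨hs, hc⟩ := Cfsg.Agent.S1073.result hm hF
  obtain ⟨a, haH, ha1, ha2⟩ := Cfsg.Agent.S1157.exists_involution hF
  obtain ⟨-, hS⟩ := Cfsg.Agent.S1152.result hF a haH ha1 ha2
  have T : Sylow 2 ↥(Cfsg.Lie.twistedG2 F (3 ^ m)) := default
  exact outNil_eight hc T (hS T).1 (hS T).2

/-- **`J₁`.** -/
theorem outNil_J1 {K : Type*} [Group K] (h : Cfsg.Spor.IsoJ1 K) : OutNil K := by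
  obtain ⟨e⟩ := h
  refine OutNil.of_equiv e.symm ?_
  have : Fact (Nat.Prime 2) := ⟨Nat.prime_two⟩
  have hs : IsSimpleGroup Cfsg.Spor.J1 := Cfsg.Agent.SporadicB.J1.Main.isJ1.1
  have hcard : Nat.card Cfsg.Spor.J1 = 175560 := Cfsg.Agent.SporadicB.J1.Main.isJ1.2
  have hfin : Finite Cfsg.Spor.J1 := Nat.finite_of_card_ne_zero (by rw [hcard]; norm_num)
  have hK : ¬ IsMulCommutative Cfsg.Spor.J1 := by
    intro h
    have hc : ∀ a b : Cfsg.Spor.J1, a * b = b * a := h.is_comm.comm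
    let _ : CommGroup Cfsg.Spor.J1 := { (inferInstance : Group Cfsg.Spor.J1) with mul_comm := hc }
    have hp : (Nat.card Cfsg.Spor.J1).Prime := IsSimpleGroup.prime_card
    rw [hcard] at hp
    norm_num at hp
  have hE : Nat.card Cfsg.Agent.SporadicB.J1.Main.data.E = 8 := Cfsg.Agent.SporadicB.J1.Main.data.card_E
  have hp : IsPGroup 2 Cfsg.Agent.SporadicB.J1.Main.data.E := IsPGroup.of_card (n := 3) (by rw [hE]; norm_num)
  have hi : ¬ 2 ∣ Cfsg.Agent.SporadicB.J1.Main.data.E.index := by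
    have h1 := Cfsg.Agent.SporadicB.J1.Main.data.E.card_mul_index
    rw [hE, hcard] at h1
    omega
  refine outNil_eight hK (hp.toSylow hi) hE fun s hs => ?_
  obtain ⟨i, rfl⟩ : ∃ i, Cfsg.Agent.SporadicB.J1.Main.e i = s := hs
  exact PairJOne.e_sq i

/-- the Sylow 2-subgroup of a group of order `4k`, `k` odd -/
theorem card_sylow_four {G : Type*} [Group G] [Finite G] {k : ℕ} (hk : Odd k) (h : Nat.card G = 4 * k)
    (S : Sylow 2 G) : Nat.card S = 4 := by
  have : Fact (Nat.Prime 2) := ⟨Nat.prime_two⟩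
  have hk0 : k ≠ 0 := by
    rintro rfl
    exact absurd hk (by decide)
  rw [S.card_eq_multiplicity, h, show (4 : ℕ) = 2 ^ 2 by norm_num, Nat.factorization_mul (by norm_num) hk0,
    Nat.Prime.factorization_pow Nat.prime_two, Finsupp.add_apply, Finsupp.single_eq_same,
    Nat.factorization_eq_zero_of_not_dvd (by rw [← even_iff_two_dvd, Nat.not_even_iff_odd]; exact hk)]

theorem outNil_lTwo {F : Type*} [Field F] [Fintype F] (h4 : 4 ≤ Fintype.card F)
    (h8 : Fintype.card F % 8 = 3 ∨ Fintype.card F % 8 = 5) :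
    OutNil (Matrix.ProjectiveSpecialLinearGroup (Fin 2) F) := by
  classical
  have hs : IsSimpleGroup (Matrix.ProjectiveSpecialLinearGroup (Fin 2) F) :=
    Matrix.ProjectiveSpecialLinearGroup.rank_two_simple (by rw [Nat.card_eq_fintype_card]; exact h4)
  have hodd : Odd (Fintype.card F) := by rw [Nat.odd_iff]; omega
  have hcard := Cfsg.Agent.SmallSimple.PSLTwoPart.card_psl_two_odd (F := F) hodd
  obtain ⟨k, hk, hN⟩ : ∃ k, Odd k ∧ Nat.card (Matrix.ProjectiveSpecialLinearGroup (Fin 2) F) = 4 * k := by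
    generalize Nat.card (Matrix.ProjectiveSpecialLinearGroup (Fin 2) F) = N at hcard
    generalize Fintype.card F = q at hcard h8 hodd
    rcases h8 with h | h
    · obtain ⟨a, rfl⟩ : ∃ a, q = 8 * a + 3 := ⟨q / 8, by omega⟩
      refine ⟨(8 * a + 3) * (8 * a ^ 2 + 6 * a + 1), hodd.mul ⟨4 * a ^ 2 + 3 * a, by ring⟩, ?_⟩
      have e : (8 * a + 3) ^ 2 - 1 = 8 * (8 * a ^ 2 + 6 * a + 1) := by
        rw [Nat.sub_eq_iff_eq_add (Nat.one_le_pow _ _ (by omega))]
        ring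
      rw [e] at hcard
      have : 2 * N = 2 * (4 * ((8 * a + 3) * (8 * a ^ 2 + 6 * a + 1))) := by rw [hcard]; ring
      exact Nat.eq_of_mul_eq_mul_left (by norm_num) this
    · obtain ⟨a, rfl⟩ : ∃ a, q = 8 * a + 5 := ⟨q / 8, by omega⟩
      refine ⟨(8 * a + 5) * (8 * a ^ 2 + 10 * a + 3), hodd.mul ⟨4 * a ^ 2 + 5 * a + 1, by ring⟩, ?_⟩
      have e : (8 * a + 5) ^ 2 - 1 = 8 * (8 * a ^ 2 + 10 * a + 3) := by
        rw [Nat.sub_eq_iff_eq_add (Nat.one_le_pow _ _ (by omega))]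
        ring
      rw [e] at hcard
      have : 2 * N = 2 * (4 * ((8 * a + 5) * (8 * a ^ 2 + 10 * a + 3))) := by rw [hcard]; ring
      exact Nat.eq_of_mul_eq_mul_left (by norm_num) this
  have hc : ¬ IsMulCommutative (Matrix.ProjectiveSpecialLinearGroup (Fin 2) F) := by
    intro h
    have hc : ∀ a b : Matrix.ProjectiveSpecialLinearGroup (Fin 2) F, a * b = b * a := h.is_comm.comm
    let _ : CommGroup (Matrix.ProjectiveSpecialLinearGroup (Fin 2) F) :=
      { (inferInstance : Group (Matrix.ProjectiveSpecialLinearGroup (Fin 2) F)) with mul_comm := hc }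
    have hp : (Nat.card (Matrix.ProjectiveSpecialLinearGroup (Fin 2) F)).Prime := IsSimpleGroup.prime_card
    rw [hN] at hp
    have h1 := (Nat.dvd_prime hp).1 (⟨2 * k, by ring⟩ : 2 ∣ 4 * k)
    omega
  exact outNil_four hc default (card_sylow_four hk hN default)

/-- **`L₂(r)`, `r ≡ 3, 5 mod 8`.** -/
theorem outNil_lTwoFour {K : Type*} [Group K] (h : Cfsg.Agent.Omega.KFacts.IsLTwoFour K) : OutNil K := by
  obtain ⟨F, _, _, h8, h11, ⟨e⟩⟩ := h
  exact OutNil.of_equiv e.symm (outNil_lTwo (by omega) h8)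

/-- **The rows left over by `(ZS)`.** -/
theorem outNil_outZS {K : Type*} [Group K] (h : Cfsg.Agent.Omega.KFacts.OutZS K) : OutNil K := by
  rcases h with h | h | h
  · exact outNil_lTwoFour h
  · exact outNil_J1 h
  · exact outNil_ree h

end Cfsg.Agent.Omega.Lie.OutT
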