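import Mathlib
import Cfsg.Prelude.Def_LieTypeChar
import Cfsg.Agent.Schreier.ClassPSL
import Cfsg.Agent.Schreier.ClassPSp
import Cfsg.Agent.Schreier.PSU
import Cfsg.Agent.Omega.Lie.OutT

/-!
# `OutNil` for the linear, symplectic and unitary groups in characteristic two
-/

set_option autoImplicit false

namespace Cfsg.Agent.Omega.Lie.OutT

open Matrix Cfsg Cfsg.Agent.Schreier.Basic Cfsg.Agent.Schreier.ClassBase

open scoped commutatorElement

/-- Criterion: the commutators of automorphisms lie in `D`, whose elements have inner odd powers. -/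
theorem outNil_of_comm {L : Type*} [Group L] (D : Subgroup (MulAut L)) (hD : ∀ x t : MulAut L, ⁅x, t⁆ ∈ D)
    (h : ∀ φ ∈ D, ∃ k : ℕ, Odd k ∧ φ ^ k ∈ (MulAut.conj : L →* MulAut L).range) : OutNil L := by
  refine outNil_of_index_two ⊤ (Or.inl Subgroup.index_top) D (fun x _ t _ => ?_) fun φ hφ _ => h φ hφ
  have h1 := hD x⁻¹ t
  rw [commutatorElement_def, inv_inv] at h1
  have e : x⁻¹ * (t * x * t⁻¹) = x⁻¹ * t * x * t⁻¹ := by group
  rw [e]
  exact h1

/-- Product criterion. -/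
theorem outNil_of_product {K B : Type*} [Group K] [Group B] (L : B →* MulAut K) (N : Subgroup B) (F : Set B)
    (hF : ∀ f ∈ F, ∀ x ∈ N, f * x * f⁻¹ ∈ N) (hc : ∀ f ∈ F, ∀ g ∈ F, f * g = g * f)
    (hall : ∀ α : MulAut K, ∃ a ∈ N, ∃ f ∈ F, α = L (a * f))
    (hN : ∀ a ∈ N, ∃ k : ℕ, Odd k ∧ L (a ^ k) ∈ (MulAut.conj : K →* MulAut K).range) : OutNil K := by
  refine outNil_of_comm (N.map L) (fun α β => ?_) ?_
  · obtain ⟨a, ha, f, hf, rfl⟩ := hall α
    obtain ⟨b, hb, g, hg, rfl⟩ := hall β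
    rw [← map_commutatorElement]
    refine ⟨_, ?_, rfl⟩
    have h2 : ⁅a * f, b * g⁆ = a * (f * b * f⁻¹) * (g * a⁻¹ * g⁻¹) * b⁻¹ := by
      have h3 : f * g * f⁻¹ = g := by rw [hc f hf g hg, mul_inv_cancel_right]
      calc ⁅a * f, b * g⁆ = a * (f * b * f⁻¹) * (f * g * f⁻¹) * a⁻¹ * g⁻¹ * b⁻¹ := by
            rw [commutatorElement_def]; group
        _ = _ := by rw [h3]; group
    rw [h2]
    exact N.mul_mem (N.mul_mem (N.mul_mem ha (hF f hf b hb)) (hF g hg _ (N.inv_mem ha))) (N.inv_mem hb)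
  · rintro _ ⟨a, ha, rfl⟩
    obtain ⟨k, hk, h⟩ := hN a ha
    refine ⟨k, hk, ?_⟩
    rwa [← map_pow]

/-- the order of the multiplicative group of a finite field of characteristic two is odd -/
theorem odd_card_units (F : Type*) [Field F] [Finite F] [CharP F 2] : Odd (Nat.card Fˣ) := by
  have := Fintype.ofFinite F
  obtain ⟨n, -, hn⟩ := FiniteField.card F 2
  have h1 : Nat.card Fˣ = 2 ^ (n : ℕ) - 1 := by
    rw [Nat.card_units, Nat.card_eq_fintype_card, hn]
  rw [h1, Nat.odd_iff]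
  have h2 : 2 ^ (n : ℕ) = 2 * 2 ^ ((n : ℕ) - 1) := by
    rw [← pow_succ', Nat.sub_add_cancel n.pos]
  have h3 : 0 < 2 ^ ((n : ℕ) - 1) := by positivity
  omega

section PSL

open Cfsg.Agent.Schreier.ClassPSL
open Cfsg.Agent.ClassicalGeometry.AutPSL.Root Cfsg.Agent.ClassicalGeometry.AutPSL.Auto
  Cfsg.Agent.ClassicalGeometry.AutPSL.Main

variable {ι F : Type*} [Fintype ι] [DecidableEq ι] [Field F]

/-- Elements of determinant one induce inner automorphisms. -/
theorem lift_cj_of_det (A : GL ι F) (h : Matrix.GeneralLinearGroup.det A = 1) :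
    lift (cj A) ∈ (MulAut.conj : Matrix.ProjectiveSpecialLinearGroup ι F →*
      MulAut (Matrix.ProjectiveSpecialLinearGroup ι F)).range := by
  have hdet : (A : Matrix ι ι F).det = 1 := by
    have h2 := congrArg Units.val h
    rwa [Matrix.GeneralLinearGroup.val_det_apply, Units.val_one] at h2
  let s : Matrix.SpecialLinearGroup ι F := ⟨_, hdet⟩
  refine ⟨pr s, ?_⟩
  apply MulEquiv.ext
  intro x
  obtain ⟨x, rfl⟩ := pr_surjective x
  rw [lift_pr, MulAut.conj_apply, ← map_inv, ← map_mul, ← map_mul]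
  congr 1
  apply Subtype.ext
  rw [coe_cj]
  have hinv : (s⁻¹ : Matrix.SpecialLinearGroup ι F).1 = ((A⁻¹ : GL ι F) : Matrix ι ι F) := by
    have h1 : (s * s⁻¹ : Matrix.SpecialLinearGroup ι F).1 = 1 := by rw [mul_inv_cancel]; rfl
    have h2 : (A : Matrix ι ι F) * (s⁻¹ : Matrix.SpecialLinearGroup ι F).1 = 1 := h1
    have h3 : ((A⁻¹ : GL ι F) : Matrix ι ι F) * (A : Matrix ι ι F) = 1 := by
      rw [← Units.val_mul, inv_mul_cancel, Units.val_one]
    calc (s⁻¹ : Matrix.SpecialLinearGroup ι F).1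
        = (((A⁻¹ : GL ι F) : Matrix ι ι F) * (A : Matrix ι ι F)) *
          (s⁻¹ : Matrix.SpecialLinearGroup ι F).1 := by rw [h3, one_mul]
      _ = _ := by rw [mul_assoc, h2, mul_one]
  change s.1 * x.1 * (s⁻¹ : Matrix.SpecialLinearGroup ι F).1 = _
  rw [hinv]

/-- `PSL n F`, characteristic two. -/
theorem outNil_PSL {F : Type*} [Field F] [Finite F] [CharP F 2] {n : ℕ} (hn : 2 ≤ n) :
    OutNil (Matrix.ProjectiveSpecialLinearGroup (Fin n) F) := by
  have := Fintype.ofFinite F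
  refine outNil_of_product lift cj.range {x | ∃ σ : F ≃+* F, x = fld σ ∨ x = fld σ * itr} ?_ ?_ ?_ ?_
  · rintro f ⟨σ, rfl | rfl⟩ x hx
    · exact cj_norm_fld σ hx
    · have h1 : fld σ * itr * x * (fld σ * itr)⁻¹ = fld σ * (itr * x * itr⁻¹) * (fld σ)⁻¹ := by
        group
      rw [h1]
      exact cj_norm_fld σ (cj_norm_itr hx)
  · have hff := fun σ τ : F ≃+* F => fld_comm (ι := Fin n) σ τ
    have hif := fun σ : F ≃+* F => itr_mul_fld (ι := Fin n) σ
    rintro f ⟨σ, rfl | rfl⟩ g ⟨τ, rfl | rfl⟩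
    · exact hff σ τ
    · rw [← mul_assoc, hff, mul_assoc, mul_assoc, hif]
    · rw [mul_assoc, hif, ← mul_assoc, hff, mul_assoc]
    · rw [mul_assoc, ← mul_assoc itr, hif, mul_assoc, ← mul_assoc, hff, mul_assoc (fld τ) itr,
        ← mul_assoc itr, hif]
      simp only [mul_assoc]
  · intro α
    rcases Nat.lt_or_ge n 3 with h | h
    · obtain rfl : n = 2 := by omega
      obtain ⟨A, σ, hA⟩ := surj_two 2 α
      exact ⟨_, ⟨A, rfl⟩, _, ⟨σ, Or.inl rfl⟩, hA⟩
    · rcases surj_three 2 h α with ⟨A, σ, hA⟩ | ⟨A, σ, hA⟩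
      · exact ⟨_, ⟨A, rfl⟩, _, ⟨σ, Or.inl rfl⟩, hA⟩
      · exact ⟨_, ⟨A, rfl⟩, _, ⟨σ, Or.inr rfl⟩, by rw [hA, mul_assoc]⟩
  · rintro _ ⟨A, rfl⟩
    refine ⟨Nat.card Fˣ, odd_card_units F, ?_⟩
    rw [← map_pow]
    apply lift_cj_of_det
    rw [map_pow]
    exact pow_card_eq_one'

end PSL

section PSp

open Cfsg.Agent.Schreier.ClassPSp
open Cfsg.Agent.ClassicalGeometry.SympAutSemi

variable {m : ℕ} {F : Type*} [Field F]

theorem isSemi_pow {g : Equiv.Perm (Fin m ⊕ Fin m → F)} {l : F} (hg : IsSemi g (RingEquiv.refl F) l) (k : ℕ) :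
    IsSemi (g ^ k) (RingEquiv.refl F) (l ^ k) := by
  induction k with
  | zero =>
    rw [pow_zero, pow_zero]
    exact ⟨fun _ _ => rfl, fun _ _ => rfl, fun _ _ => by rw [one_mul]; rfl⟩
  | succ k ih =>
    rw [pow_succ, pow_succ]
    exact ih.mul hg

/-- `PSp m F`, characteristic two. -/
theorem outNil_PSp [Finite F] [CharP F 2] (hm : 2 ≤ m) (h22 : m = 2 → 3 ≤ Nat.card F) : OutNil (PSp m F) := by
  have := Fintype.ofFinite F
  have hB : ∀ α : MulAut (PSp m F), Cfsg.Agent.ClassicalGeometry.AutPSpCount.Pres α →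
      α ∈ (Psi m F).range := by
    intro α hα
    obtain ⟨g, hg⟩ := Cfsg.Agent.ClassicalGeometry.SympAutExists.exists_semi hm α hα
    exact ⟨g, hg⟩
  have hidx : (Psi m F).range.index = 1 ∨ (Psi m F).range.index = 2 := by
    by_cases hcase : m = 2 ∧ (2 : F) = 0
    · obtain ⟨rfl, h2⟩ := hcase
      have ht : ∃ t : F, t ≠ 0 ∧ t ≠ 1 := by
        by_contra hcon
        push Not at hcon
        have h3 : Fintype.card F ≤ 2 := by
          classical
          have : (Finset.univ : Finset F) ⊆ {0, 1} := by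
            intro t _
            by_cases h0 : t = 0
            · simp [h0]
            · simp [hcon t h0]
          exact (Finset.card_le_card this).trans (Finset.card_le_two)
        have h4 := h22 rfl
        rw [Nat.card_eq_fintype_card] at h4
        omega
      rw [Cfsg.Agent.ClassicalGeometry.SympAutTwo.index_two ht hB]
      exact Or.inr rfl
    · have htop : (Psi m F).range = ⊤ := by
        rw [eq_top_iff]
        intro α _
        apply hB
        refine Cfsg.Agent.ClassicalGeometry.SympAutOddA.recog hm ?_ α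
        by_cases hm2 : m = 2
        · right
          intro h2
          exact hcase ⟨hm2, h2⟩
        · left; omega
      rw [htop, Subgroup.index_top]
      exact Or.inl rfl
  refine outNil_of_index_two (Psi m F).range hidx ((sim m F).map (Psi m F)) ?_ ?_
  · rintro _ ⟨g, rfl⟩ _ ⟨h, rfl⟩
    refine ⟨⁅g⁻¹, h⁆, derived_one ?_, ?_⟩
    · rw [derivedSeries_succ]
      exact Subgroup.commutator_mem_commutator (Subgroup.mem_top _) (Subgroup.mem_top _)
    · simp only [commutatorElement_def, map_mul, map_inv, inv_inv, mul_assoc]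
  · rintro _ ⟨g, ⟨l, hl, hg⟩, rfl⟩ -
    refine ⟨Nat.card Fˣ, odd_card_units F, ?_⟩
    rw [← map_pow]
    apply Psi_isom
    have h1 := isSemi_pow hg (Nat.card Fˣ)
    have h2 : l ^ Nat.card Fˣ = 1 := by
      have h3 : (Units.mk0 l hl) ^ Nat.card Fˣ = 1 := pow_card_eq_one'
      have h4 := congrArg Units.val h3
      rwa [Units.val_pow_eq_pow_val, Units.val_mk0, Units.val_one] at h4
    rw [h2] at h1
    exact h1

end PSp

section PSU

open Cfsg.Agent.Schreier.PSU Cfsg.Agent.ClassicalGeometry.PSUAutCount Cfsg.Agent.LieClassical.HermSiegel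
open Cfsg.Agent.ClassicalGeometry.UnitAutBasic (pr pr_surjective)

/-- Criterion with two homomorphisms. -/
theorem outNil_of_two {K A B : Type*} [Group K] [Group A] [Group B] (f₁ : A →* MulAut K) (f₂ : B →* MulAut K)
    (hB : ∀ b b' : B, b * b' = b' * b) (h : ∀ α : MulAut K, ∃ a b, α = f₁ a * f₂ b)
    (hn : ∀ a b, ∃ a', f₂ b * f₁ a * (f₂ b)⁻¹ = f₁ a')
    (hi : ∀ a : A, ∃ k : ℕ, Odd k ∧ f₁ (a ^ k) ∈ (MulAut.conj : K →* MulAut K).range) : OutNil K := by
  have hN : (f₁.range).Normal := by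
    constructor
    rintro _ ⟨a, rfl⟩ α
    obtain ⟨a₁, b, rfl⟩ := h α
    obtain ⟨a', ha'⟩ := hn a b
    refine ⟨a₁ * a' * a₁⁻¹, ?_⟩
    rw [map_mul, map_mul, map_inv, ← ha']
    group
  -- the quotient is commutative
  have hcomm : ∀ x y : MulAut K ⧸ f₁.range, x * y = y * x := by
    intro x y
    obtain ⟨α, rfl⟩ := QuotientGroup.mk_surjective x
    obtain ⟨β, rfl⟩ := QuotientGroup.mk_surjective y
    obtain ⟨a, b, rfl⟩ := h α
    obtain ⟨a', b', rfl⟩ := h β
    have h1 : ∀ a, (QuotientGroup.mk (f₁ a) : MulAut K ⧸ f₁.range) = 1 := fun a =>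
      (QuotientGroup.eq_one_iff _).2 ⟨a, rfl⟩
    rw [QuotientGroup.mk_mul, QuotientGroup.mk_mul, h1, h1, one_mul, one_mul, ← QuotientGroup.mk_mul,
      ← QuotientGroup.mk_mul, ← map_mul, ← map_mul, hB]
  refine outNil_of_comm f₁.range (fun x t => ?_) ?_
  · rw [← QuotientGroup.eq_one_iff]
    change QuotientGroup.mk' f₁.range ⁅x, t⁆ = 1
    rw [map_commutatorElement, commutatorElement_eq_one_iff_mul_comm]
    exact hcomm _ _
  · rintro _ ⟨a, rfl⟩
    obtain ⟨k, hk, h⟩ := hi a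
    exact ⟨k, hk, by rwa [← map_pow]⟩

variable {F : Type*} [Field F] {q n : ℕ}

theorem gm_pow (A : GU n F q) (k : ℕ) : gm (A ^ k) = gm A ^ k := by
  induction k with
  | zero => rw [pow_zero, pow_zero, gm_one]
  | succ k ih => rw [pow_succ, pow_succ, gm_mul, ih]

/-- `PSU n q`, characteristic two. -/
theorem outNil_PSU [Fintype F] [CharP F 2] (hF : Fintype.card F = q ^ 2) (hn : 3 ≤ n)
    (h32 : ¬ (n = 3 ∧ q = 2)) : OutNil (PSU n F q) := by
  have hc : IsCyclic (F ≃+* F) := LieRecognition.FieldSemilinear.isCyclic_ringAut F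
  let _ : CommGroup (F ≃+* F) := IsCyclic.commGroup
  refine outNil_of_two (f₁ (F := F) (q := q) (n := n)) f₂ (fun b b' => mul_comm b b') ?_
    (fun a b => ⟨_, conj_field b a⟩) ?_
  · intro α
    obtain ⟨A, ρ, h⟩ := ClassicalGeometry.PSUAutMain.exists_toAut hF hn h32 α
    exact ⟨A, ρ, h.trans (toAut_eq A ρ)⟩
  · intro A
    refine ⟨Nat.card Fˣ, odd_card_units F, ?_⟩
    have hdet : (gm (A ^ Nat.card Fˣ)).det = 1 := by
      have h1 : (gm A).det ≠ 0 := by
        have h2 : (gm A).det * (gm A⁻¹).det = 1 := by rw [← det_mul, gm_mul_inv, det_one]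
        exact left_ne_zero_of_mul_eq_one h2
      rw [gm_pow, det_pow]
      have h3 : (Units.mk0 _ h1) ^ Nat.card Fˣ = 1 := pow_card_eq_one'
      have h4 := congrArg Units.val h3
      rwa [Units.val_pow_eq_pow_val, Units.val_mk0, Units.val_one] at h4
    let g : SU n F q := mkSU (gm (A ^ Nat.card Fˣ)) hdet (fun u v => herm_gm _ u v)
    exact ⟨pr n F q g, (f₁_eq_conj (A ^ Nat.card Fˣ) g rfl).symm⟩

end PSU

/-! ### The rows -/

theorem outNil_psl {L : Type*} [Group L] (h : IsPSLChar 2 L) : OutNil L := by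
  obtain ⟨F, _, _, _, n, hn, -, ⟨e⟩⟩ := h
  exact (outNil_PSL hn).of_equiv e.symm

theorem outNil_psp {L : Type*} [Group L] (h : IsPSpChar 2 L) : OutNil L := by
  obtain ⟨F, _, _, _, m, hm, h2, ⟨e⟩⟩ := h
  exact (outNil_PSp hm fun h3 => by rw [Nat.card_eq_fintype_card]; exact h2 h3).of_equiv e.symm

theorem outNil_psu {L : Type*} [Group L] (h : IsPSUChar 2 L) : OutNil L := by
  obtain ⟨F, _, _, _, n, q, hF, hn, h32, ⟨e⟩⟩ := h
  exact (outNil_PSU hF hn h32).of_equiv e.symm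

end Cfsg.Agent.Omega.Lie.OutT
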