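import Mathlib
import Cfsg.Prelude.Def_LieTypeChar
import Cfsg.Agent.Schreier.ClassPOmega
import Cfsg.Agent.Omega.Lie.Out.Class
import Cfsg.Agent.ClassicalGeometry.TrialityFinal
import Cfsg.Agent.KFacts.RgdFld.Two

/-!
# `OutNil` for the orthogonal groups in characteristic two
-/

set_option autoImplicit false

namespace Cfsg.Agent.Omega.Lie.OutT

open Cfsg Cfsg.Agent.Schreier.Basic Cfsg.Agent.Schreier.ClassBase Cfsg.Agent.Schreier.ClassPOmega
open QuadraticMap Cfsg.Agent.LieClassical.OrthCore Cfsg.Agent.LieClassical.OrthTrans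
  Cfsg.Agent.LieClassical.OrthSimple Cfsg.Agent.LieClassical.OrthForms
  Cfsg.Agent.ClassicalGeometry.OrthSemi Cfsg.Agent.ClassicalGeometry.OrthSemiForms

open scoped commutatorElement

section general

variable {F V : Type*} [Field F] [AddCommGroup V] [Module F V] {Q : QuadraticForm F V}

/-- In characteristic two `E Q` has index at most two in `O Q`. -/
theorem O_dich [Finite F] [CharP F 2] [FiniteDimensional F V] (hG : Good Q) {a : V} (ha : Q a ≠ 0)
    {g : V ≃ₗ[F] V} (hg : g ∈ O Q) : g ∈ E Q ∨ refl Q a ha * g ∈ E Q := by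
  set r := refl Q a ha with hr
  have hrO : r ∈ O Q := refl_mem_O ha
  have hri : r⁻¹ = r := refl_inv ha
  rw [O_eq_closure hG.nondeg] at hg
  induction hg using Subgroup.closure_induction with
  | mem x hx =>
    rcases hx with ⟨v, hv, rfl⟩ | ⟨u, w, hu, hw, rfl⟩
    · right
      have hsq : IsSquare (Q a * (Q v)⁻¹) := FiniteField.isSquare_of_char_two (ringChar.eq F 2) _
      obtain ⟨c, hc⟩ := hsq
      have hc0 : c ≠ 0 := by
        rintro rfl
        rw [mul_zero] at hc
        exact (mul_ne_zero ha (inv_ne_zero hv)) hc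
      have hcv : Q (c • v) = Q a := by
        rw [QuadraticMap.map_smul, ← hc, smul_eq_mul, mul_assoc, inv_mul_cancel₀ hv, mul_one]
      have hcv0 : Q (c • v) ≠ 0 := by rw [hcv]; exact ha
      rw [← refl_smul hv hc0 hcv0]
      exact hG.refl_mul_refl_mem hcv0 ha hcv
    · exact Or.inl (siegel_mem_E hu hw)
  | one => exact Or.inl (one_mem _)
  | mul x y hx' hy' hx hy =>
    rcases hx with hx | hx <;> rcases hy with hy | hy
    · exact Or.inl ((E Q).mul_mem hx hy)
    · right
      have e : r * (x * y) = (r * x * r⁻¹) * (r * y) := by group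
      rw [e]
      exact (E Q).mul_mem (conj_mem_E hrO hx) hy
    · right
      have e : r * (x * y) = (r * x) * y := by group
      rw [e]
      exact (E Q).mul_mem hx hy
    · left
      have e : x * y = (r * (r * x) * r⁻¹) * (r * y) := by
        have h1 : r * r = 1 := by
          nth_rewrite 1 [← hri]; exact inv_mul_cancel r
        calc x * y = (r * r) * x * y := by rw [h1, one_mul]
          _ = _ := by group
      rw [e]
      exact (E Q).mul_mem (conj_mem_E hrO hx) hy
  | inv x hx' hx =>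
    rcases hx with hx | hx
    · exact Or.inl ((E Q).inv_mem hx)
    · right
      have e : r * x⁻¹ = r * (r * x)⁻¹ * r⁻¹ := by
        rw [mul_inv_rev, hri]
        have h1 : r * r = 1 := by
          nth_rewrite 1 [← hri]; exact inv_mul_cancel r
        calc r * x⁻¹ = r * x⁻¹ * (r * r) := by rw [h1, mul_one]
          _ = _ := by group
      rw [e]
      exact conj_mem_E hrO ((E Q).inv_mem hx)

theorem isSS_pow {g : Equiv.Perm V} {l : F} (hg : IsSS Q (RingEquiv.refl F) l g) (k : ℕ) :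
    IsSS Q (RingEquiv.refl F) (l ^ k) (g ^ k) := by
  induction k with
  | zero =>
    rw [pow_zero, pow_zero]
    exact ⟨one_ne_zero, fun _ _ => rfl, fun _ _ => rfl, fun _ => by rw [one_mul]; rfl⟩
  | succ k ih =>
    rw [pow_succ, pow_succ]
    exact ih.mul hg

/-- An odd power of a similitude is an isometry. -/
theorem pow_isom [Finite F] {g : Gam Q} (hg : g ∈ sim Q) : g ^ Nat.card Fˣ ∈ isom Q := by
  obtain ⟨l, hl⟩ := hg
  have h1 := isSS_pow hl (Nat.card Fˣ)
  have h2 : l ^ Nat.card Fˣ = 1 := by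
    have h3 : (Units.mk0 l hl.ne) ^ Nat.card Fˣ = 1 := pow_card_eq_one'
    have h4 := congrArg Units.val h3
    rwa [Units.val_pow_eq_pow_val, Units.val_mk0, Units.val_one] at h4
  rw [h2] at h1
  exact h1

theorem mem_isom_of_cfg [Finite F] [CharP F 2] {X T : Subgroup (MulAut (↥(E Q) ⧸ Subgroup.center ↥(E Q)))}
    (c : Cfg X T) {x : MulAut (↥(E Q) ⧸ Subgroup.center ↥(E Q))} (hx : x ∈ X) {g : Gam Q} (hg : g ∈ sim Q)
    (h : Psi Q g = x) : ∃ g' ∈ isom Q, Psi Q g' = x := by
  refine ⟨g ^ Nat.card Fˣ, pow_isom hg, ?_⟩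
  obtain ⟨r, hr⟩ := odd_card_units F
  rw [map_pow, h, hr, pow_succ, pow_mul, pow_two, c.sq x hx, one_pow, one_mul]

/-- Two isometries which do not induce inner automorphisms. -/
theorem mul_inner [Finite F] [CharP F 2] [FiniteDimensional F V] (hG : Good Q) {g h : Gam Q} (hg : g ∈ isom Q)
    (hh : h ∈ isom Q) (hgi : Psi Q g ∉ (MulAut.conj : ↥(E Q) ⧸ Subgroup.center ↥(E Q) →* _).range)
    (hhi : Psi Q h ∉ (MulAut.conj : ↥(E Q) ⧸ Subgroup.center ↥(E Q) →* _).range) :
    Psi Q g * Psi Q h ∈ (MulAut.conj : ↥(E Q) ⧸ Subgroup.center ↥(E Q) →* _).range := by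
  obtain ⟨m, hm, hgm⟩ := exists_lin hg
  obtain ⟨n, hn, hhn⟩ := exists_lin hh
  -- a nonsingular vector
  obtain ⟨a, ha⟩ : ∃ a, Q a ≠ 0 := by
    obtain ⟨x, y, hxy⟩ := hG.exists_hyp
    refine ⟨x + y, ?_⟩
    rw [Q_add, hxy.left, hxy.right, hxy.pair]
    simp
  have h1 : refl Q a ha * m ∈ E Q := (O_dich hG ha hm).resolve_left fun h => hgi (Psi_E h hgm)
  have h2 : refl Q a ha * n ∈ E Q := (O_dich hG ha hn).resolve_left fun h => hhi (Psi_E h hhn)
  have h3 : m * n ∈ E Q := by
    rcases O_dich hG ha ((O Q).mul_mem hm hn) with h | h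
    · exact h
    · -- `m = r (r m)`, so `m * n = r (r m) r⁻¹ (r n)`
      have hri : (refl Q a ha)⁻¹ = refl Q a ha := refl_inv ha
      have h0 : refl Q a ha * refl Q a ha = 1 := by
        nth_rewrite 1 [← hri]; exact inv_mul_cancel _
      have e : m * n = (refl Q a ha * (refl Q a ha * m) * (refl Q a ha)⁻¹) * (refl Q a ha * n) := by
        calc m * n = (refl Q a ha * refl Q a ha) * m * n := by rw [h0, one_mul]
          _ = _ := by group
      rw [e]
      exact (E Q).mul_mem (conj_mem_E (refl_mem_O ha) h1) h2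
  rw [← map_mul]
  refine Psi_E h3 fun v => ?_
  change g.1 (h.1 v) = m (n v)
  rw [hgm, hhn]

/-- all automorphisms are induced by semisimilitudes -/
theorem outNil_P [Finite F] [CharP F 2] [FiniteDimensional F V] (hG : Good Q)
    (hs : Function.Surjective (Psi Q)) : OutNil (↥(E Q) ⧸ Subgroup.center ↥(E Q)) := by
  rw [outNil_iff]
  intro X T c
  have h1 : X ≤ (sim Q).map (Psi Q) := c.le_of fun x hx t ht => by
    obtain ⟨g, rfl⟩ := hs x
    obtain ⟨h, rfl⟩ := hs t
    refine ⟨⁅g⁻¹, h⁆, derived_one ?_, ?_⟩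
    · rw [derivedSeries_succ]
      exact Subgroup.commutator_mem_commutator (Subgroup.mem_top _) (Subgroup.mem_top _)
    · simp only [commutatorElement_def, map_mul, map_inv, inv_inv, mul_assoc]
  have hn := conj_range_normal (↥(E Q) ⧸ Subgroup.center ↥(E Q))
  refine c.le_of_two' fun x hx y hy hxN hyN => ?_
  obtain ⟨g, hg, hgx⟩ := h1 hx
  obtain ⟨h, hh, hhy⟩ := h1 hy
  obtain ⟨g, hg, rfl⟩ := mem_isom_of_cfg c hx hg hgx
  obtain ⟨h, hh, rfl⟩ := mem_isom_of_cfg c hy hh hhy
  exact mul_inner hG hg hh hxN hyN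

end general

variable {F : Type*} [Field F] [Finite F] [CharP F 2]

/-- plus type, rank at least five -/
theorem outNil_plus {m : ℕ} (hm : 5 ≤ m) : OutNil (Cfsg.POmega F (Cfsg.quadFormPlus m F)) := by
  have := Fintype.ofFinite F
  have hG := good_plus (F := F) (m := m) (by omega)
  have h1 := outNil_P hG (Cfsg.Agent.AutOrth.Final.surjective_plus (by omega))
  have h3 := OutNil.of_equiv (pomegaEquiv hG).symm h1
  rwa [coe_plusForm] at h3

/-- minus type -/
theorem outNil_minus {m : ℕ} (hm : 4 ≤ m) (a b : F)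
    (hab : ∀ z₁ z₂ : F, z₁ ^ 2 + a * z₁ * z₂ + b * z₂ ^ 2 = 0 → z₁ = 0 ∧ z₂ = 0) :
    OutNil (Cfsg.POmega F (Cfsg.quadFormMinus (m - 1) F a b)) := by
  have := Fintype.ofFinite F
  have hG := good_minus (F := F) (m := m - 1) (by omega) a b hab
  have h1 := outNil_P hG (Cfsg.Agent.AutOrth.Final.surjective_minus (by omega) hab)
  have h3 := OutNil.of_equiv (pomegaEquiv hG).symm h1
  rwa [coe_minusForm] at h3

/-! ### `PΩ₈⁺` -/

section D4

open Cfsg.Agent.ClassicalGeometry.OrthAut1 Cfsg.Agent.LieClassical.QuadForms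
  Cfsg.Agent.ClassicalGeometry.TrialityOct Cfsg.Agent.ClassicalGeometry.TrialitySpaces
  Cfsg.Agent.ClassicalGeometry.TrialityIndex Cfsg.Agent.AutOrth.Main

/-- the field automorphism of a semisimilitude is unique -/
theorem isSS_unique {F V : Type*} [Field F] [AddCommGroup V] [Module F V] {Q : QuadraticForm F V}
    {σ τ : F ≃+* F} {c d : F} {M : Equiv.Perm V} (h : IsSS Q σ c M) (h' : IsSS Q τ d M) {v : V} (hv : v ≠ 0) :
    σ = τ := by
  have hMv : M v ≠ 0 := by
    intro h0
    apply hv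
    apply M.injective
    rw [h0, h.map_zero]
  ext a
  have h1 : σ a • M v = τ a • M v := by rw [← h.smul, ← h'.smul]
  exact smul_left_injective F hMv h1

/-- an isometry acts on the stabilisers -/
theorem map_stab_isom {F V : Type*} [Field F] [AddCommGroup V] [Module F V] {Q : QuadraticForm F V} (hG : Good Q)
    {g : Gam Q} {m : V ≃ₗ[F] V} (hgm : ∀ v, g.1 v = m v) (W : Submodule F V) :
    (stab hG W).map (Psi Q g).toMonoidHom = stab hG (mapHom m W) := by
  have key : ∀ k : ↥(E Q), Psi Q g (k : P Q) ∈ stab hG (mapHom m W) ↔ (k : P Q) ∈ stab hG W := by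
    intro k
    rw [Psi_mk, mem_stab, mem_stab, pact_mk, pact_mk, coe_conjE]
    have e : conjLin g k.1 = m * k.1 * m⁻¹ := by
      apply LinearEquiv.ext
      intro v
      obtain ⟨w, rfl⟩ := g.1.surjective v
      rw [conjLin_apply', hgm, hgm]
      change m (k.1 w) = m (k.1 (m.symm (m w)))
      rw [LinearEquiv.symm_apply_apply]
    rw [e, map_mul, map_mul, map_inv, Equiv.Perm.mul_apply, Equiv.Perm.mul_apply]
    have e2 : (mapHom m)⁻¹ (mapHom m W) = W := (mapHom m).symm_apply_apply W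
    rw [e2]
    exact (mapHom m).injective.eq_iff
  ext q
  rw [Subgroup.mem_map]
  constructor
  · rintro ⟨r, hr, rfl⟩
    obtain ⟨k, rfl⟩ := QuotientGroup.mk_surjective r
    exact (key k).2 hr
  · intro hq
    refine ⟨(Psi Q g)⁻¹ q, ?_, MulAut.apply_inv_self _ (Psi Q g) q⟩
    obtain ⟨k, hk⟩ := QuotientGroup.mk_surjective ((Psi Q g)⁻¹ q)
    rw [← hk, ← key, hk, MulAut.apply_inv_self]
    exact hq

/-- the form -/
local notation "Q8" => (LieClassical.QuadForms.plusForm 4 F)

omit [CharP F 2] [Finite F] in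
theorem q8_eq : (LieClassical.OrthForms.plusForm 4 F) = Q8 := plusForm_eq 4

theorem outNil_D4_P : OutNil (P Q8) := by
  have := Fintype.ofFinite F
  have hG : Good Q8 := Cfsg.Agent.AutOrth.Main.good_plus (by norm_num)
  have h3 : (Psi Q8).range.index = 3 := by
    rw [← plusForm_eq]
    exact Cfsg.Agent.AutOrth.Final.index_plus_four
  set R := (Psi Q8).range with hR
  have hn := conj_range_normal (P Q8)
  set In := (MulAut.conj : P Q8 →* MulAut (P Q8)).range with hIn
  have hInR : In ≤ R := by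
    rintro _ ⟨p, rfl⟩
    obtain ⟨k, rfl⟩ := QuotientGroup.mk_surjective p
    have hk := mem_O.1 (E_le_O k.2)
    refine ⟨⟨k.1.toEquiv, RingEquiv.refl F, 1, ⟨one_ne_zero, fun u v => k.1.map_add u v, fun a v => k.1.map_smul a v,
      fun v => by rw [one_mul]; exact hk v⟩⟩, ?_⟩
    apply MulEquiv.ext
    intro x
    obtain ⟨l, rfl⟩ := QuotientGroup.mk_surjective x
    rw [Psi_mk, MulAut.conj_apply, ← QuotientGroup.mk_inv, ← QuotientGroup.mk_mul, ← QuotientGroup.mk_mul]
    congr 1
  -- the kernel of the action on the cosets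
  have hcore : In ≤ R.normalCore := Subgroup.normal_le_normalCore.2 hInR
  -- a triality automorphism
  obtain ⟨τ, hτ⟩ := Cfsg.Agent.ClassicalGeometry.Triality.exists_tau_xO hG
  -- reflections are not in the core
  have hrefl : ∀ (g : Gam Q8) (a : Fin 4 ⊕ Fin 4 → F) (ha : Q8 a ≠ 0),
      (∀ v, g.1 v = LieClassical.OrthCore.refl Q8 a ha v) → Psi Q8 g ∉ R.normalCore := by
    intro g a ha hg hcon
    obtain ⟨x, hx0, hx⟩ := hG.sing
    -- conjugate by `τ`
    have h1 : τ * Psi Q8 g * τ⁻¹ ∈ R :=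
      Subgroup.normalCore_le R ((inferInstance : (R.normalCore).Normal).conj_mem _ hcon τ)
    have h2 := Cfsg.Agent.AutOrth.Final.pt_of_mem_range hG h1 x hx hx0
    obtain ⟨y, hy, hy0, h4⟩ := h2
    -- compute the left side
    have h5 : (stab hG (Submodule.span F {x})).map (τ⁻¹).toMonoidHom = stab hG (leftSp x) := by
      have h6 := congrArg (fun K : Subgroup (P Q8) => K.map (τ⁻¹).toMonoidHom) (hτ x hx hx0)
      simp only [map_mulAut_inv] at h6
      exact h6.symm
    rw [map_mulAut_mul, map_mulAut_mul, h5, map_stab_isom hG hg, mapHom_apply] at h4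
    obtain ⟨z, hz, hz0, h7⟩ := IsLeft.refl ha (W := leftSp x) ⟨x, hx, hx0, rfl⟩
    rw [h7] at h4
    have h8 : (stab hG (rightSp z)).map τ.toMonoidHom = (stab hG (leftSp y)).map τ.toMonoidHom :=
      h4.trans (hτ y hy hy0).symm
    have h9 := congrArg (fun K : Subgroup (P Q8) => K.map (τ⁻¹).toMonoidHom) h8
    simp only [map_mulAut_inv] at h9
    have hl0 : leftSp y ≠ ⊥ := by
      intro h
      have := self_mem_leftSp y
      rw [h, Submodule.mem_bot] at this
      exact hy0 this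
    have hr0 : rightSp z ≠ ⊥ := by
      intro h
      have := self_mem_rightSp z
      rw [h, Submodule.mem_bot] at this
      exact hz0 this
    exact leftSp_ne_rightSp hy hy0 hz hz0
      (stab_injective hG (leftSp_sing hy) (rightSp_sing hz) hl0 hr0 h9.symm)
  obtain ⟨a, ha⟩ : ∃ a, Q8 a ≠ 0 := by
    obtain ⟨x, y, hxy⟩ := hG.exists_hyp
    refine ⟨x + y, ?_⟩
    rw [Q_add, hxy.left, hxy.right, hxy.pair]
    simp
  -- an isometry in the core is inner
  have hiso : ∀ g ∈ isom Q8, Psi Q8 g ∈ R.normalCore → Psi Q8 g ∈ In := by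
    intro g hg hgc
    by_contra hgi
    obtain ⟨m, hm, hgm⟩ := exists_lin hg
    set r := LieClassical.OrthCore.refl Q8 a ha with hr
    have h1 : r * m ∈ E Q8 := (O_dich hG ha hm).resolve_left fun h => hgi (Psi_E h hgm)
    -- the reflection as an element of `Gam`
    let s : Gam Q8 := ⟨r.toEquiv, RingEquiv.refl F, 1, ⟨one_ne_zero, fun u v => r.map_add u v,
      fun a v => r.map_smul a v, fun v => by rw [one_mul]; exact mem_O.1 (refl_mem_O ha) v⟩⟩
    have h2 : Psi Q8 (s * g) ∈ In := Psi_E h1 fun v => by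
      change r (g.1 v) = r (m v)
      rw [hgm]
    rw [map_mul] at h2
    have h4 : Psi Q8 s ∈ R.normalCore := by
      have := R.normalCore.mul_mem (hcore h2) (R.normalCore.inv_mem hgc)
      rwa [mul_inv_cancel_right] at this
    exact hrefl s a ha (fun v => rfl) h4
  have hcyc : IsCyclic (F ≃+* F) := LieRecognition.FieldSemilinear.isCyclic_ringAut F
  rw [outNil_iff]
  intro X T c
  have hXc : X ≤ R.normalCore := by
    intro x hx
    rw [Subgroup.normalCore_eq_ker, MonoidHom.mem_ker]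
    have hfin : Finite (MulAut (P Q8) ⧸ R) := Nat.finite_of_card_ne_zero (by
      change R.index ≠ 0
      rw [h3]; norm_num)
    exact c.apply_perm_eq_one (by change R.index ≤ 3; exact h3.le) _ hx
  -- elements of `X` with trivial field part are inner
  have hsim : ∀ g ∈ sim Q8, Psi Q8 g ∈ X → Psi Q8 g ∈ In := by
    intro g hg hgX
    obtain ⟨g', hg', h'⟩ := mem_isom_of_cfg c hgX hg rfl
    rw [← h']
    exact hiso g' hg' (by rw [h']; exact hXc hgX)
  refine c.le_of_two' fun x hx y hy hxN hyN => ?_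
  obtain ⟨g, rfl⟩ := Subgroup.normalCore_le R (hXc hx)
  obtain ⟨k, rfl⟩ := Subgroup.normalCore_le R (hXc hy)
  obtain ⟨σ, l, hg⟩ := g.2
  obtain ⟨ρ, l', hk⟩ := k.2
  obtain ⟨v, hv0, -⟩ := hG.sing
  -- the field parts are involutions
  have hinv : ∀ (g : Gam Q8) (σ : F ≃+* F) (l : F), IsSS Q8 σ l g.1 →
      Psi Q8 g ∈ X → σ * σ = 1 := by
    intro g σ l hg hgX
    have h1 : g * g ∈ (Psi Q8).ker := by
      rw [MonoidHom.mem_ker, map_mul, c.sq _ hgX]
    rw [ker_Psi hG] at h1
    obtain ⟨u, hu⟩ := h1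
    have h2 := hg.mul hg
    obtain ⟨σ', l'', h4⟩ := (scal Q8 u).2
    have h6 : IsSS Q8 (RingEquiv.refl F) ((u : F) ^ 2) (scal Q8 u).1 :=
      ⟨pow_ne_zero _ u.ne_zero, fun x y => by simp only [scal_apply, smul_add], fun b x => by
        simp only [scal_apply, RingEquiv.refl_apply, smul_smul, mul_comm], fun x => by
        rw [scal_apply, QuadraticMap.map_smul, smul_eq_mul, RingEquiv.refl_apply]; ring⟩
    have h7 : IsSS Q8 (σ.trans σ) (l * σ l) (scal Q8 u).1 := by rw [hu]; exact h2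
    exact isSS_unique h7 h6 hv0
  have hne : ∀ (g : Gam Q8) (σ : F ≃+* F) (l : F), IsSS Q8 σ l g.1 →
      Psi Q8 g ∈ X → Psi Q8 g ∉ In → σ ≠ 1 := by
    rintro g σ l hg hgX hgI rfl
    exact hgI (hsim g ⟨l, hg⟩ hgX)
  have hfin : Finite (F ≃+* F) := Finite.of_injective (fun σ : F ≃+* F => (σ : F → F)) DFunLike.coe_injective
  have e1 := KFacts.RgdFld.Two.inv_unique (hne g σ l hg hx hxN) (hinv g σ l hg hx) (hne k ρ l' hk hy hyN)
    (hinv k ρ l' hk hy)
  subst e1
  have h5 : IsSS Q8 (RingEquiv.refl F) (l * σ l') (g * k).1 := by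
    have h6 := hg.mul hk
    have h7 : σ.trans σ = RingEquiv.refl F := hinv g σ l hg hx
    rwa [h7] at h6
  rw [← map_mul]
  exact hsim (g * k) ⟨_, h5⟩ (by rw [map_mul]; exact X.mul_mem hx hy)

end D4

/-- plus type -/
theorem outNil_plus' {m : ℕ} (hm : 4 ≤ m) : OutNil (Cfsg.POmega F (Cfsg.quadFormPlus m F)) := by
  rcases Nat.lt_or_ge m 5 with h | h
  · obtain rfl : m = 4 := by omega
    have := Fintype.ofFinite F
    have hG := good_plus (F := F) (m := 4) (by omega)
    have h1 : OutNil (↥(E (plusForm 4 F)) ⧸ Subgroup.center ↥(E (plusForm 4 F))) := by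
      rw [q8_eq]; exact outNil_D4_P
    have h3 := OutNil.of_equiv (pomegaEquiv hG).symm h1
    rwa [coe_plusForm] at h3
  · exact outNil_plus h

/-! ### The rows -/

omit [Field F] [Finite F] [CharP F 2] in
theorem outNil_pOmegaPlus {L : Type*} [Group L] (h : IsPOmegaPlusChar 2 L) : OutNil L := by
  obtain ⟨F, _, _, _, m, hm, ⟨e⟩⟩ := h
  exact (outNil_plus' hm).of_equiv e.symm

omit [Field F] [Finite F] [CharP F 2] in
theorem outNil_pOmegaMinus {L : Type*} [Group L] (h : IsPOmegaMinusChar 2 L) : OutNil L := by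
  obtain ⟨F, _, _, _, m, a, b, hm, hab, ⟨e⟩⟩ := h
  exact (outNil_minus hm a b hab).of_equiv e.symm

omit [Field F] [Finite F] [CharP F 2] in
theorem outNil_pOmegaOdd {L : Type*} [Group L] (h : IsPOmegaOddChar 2 L) : OutNil L := by
  obtain ⟨F, _, _, _, m, hm, hodd, -⟩ := h
  exfalso
  obtain ⟨n, -, hn⟩ := FiniteField.card F 2
  rw [hn] at hodd
  have h2 : Even (2 ^ (n : ℕ)) := (Nat.even_pow.2 ⟨even_two, n.ne_zero⟩)
  exact (Nat.not_even_iff_odd.2 hodd) h2

end Cfsg.Agent.Omega.Lie.OutT
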