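import Mathlib
import Cfsg.Agent.Omega.Lie.OutT
import Cfsg.Agent.ThreePrime.SzDataExists

/-!
# `OutNil` for the Suzuki groups
-/

set_option autoImplicit false

namespace Cfsg.Agent.Omega.Lie.OutT

/-- **`Sz(2^(2m+1))`.** -/
theorem outNil_suz {K : Type*} [Group K] (h : Cfsg.Lie.IsoSuzuki K) : OutNil K := by
  have hfin : Finite K := by
    obtain ⟨F, _, _, m, -, -, ⟨e⟩⟩ := h
    classical
    exact Finite.of_equiv _ e.symm.toEquiv
  obtain ⟨F, _, _, m, hm, hF, ⟨R⟩⟩ := Cfsg.Agent.ThreePrime.SzRel.exists_rel h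
  rw [outNil_iff]
  intro X T c x hx
  obtain ⟨j, hj⟩ := R.inner hm hF x ⟨1, by rw [pow_one, pow_two]; exact c.sq x hx⟩
  exact ⟨j, hj.symm⟩

end Cfsg.Agent.Omega.Lie.OutT
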