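import Mathlib
import Cfsg.Prelude.Def_LieTypeChar
import Cfsg.Agent.Omega.Lie.OutChev
import Cfsg.Agent.Omega.Lie.OutSys
import Cfsg.Agent.S1054
import Cfsg.Agent.S1055

/-!
# `OutNil` for `G₂(q)`, `F₄(q)`, `E₆(q)`, `E₇(q)`, `E₈(q)`, `q` even
-/

set_option autoImplicit false

namespace Cfsg.Agent.Omega.Lie.OutT

/-- **The exceptional Chevalley groups.** -/
theorem outNil_exc {L : Type*} [Group L] (h : Cfsg.IsExceptionalChevChar 2 L) : OutNil L := by
  obtain ⟨F, _, _, _, h⟩ := h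
  rcases h with ⟨h3, ⟨e⟩⟩ | ⟨⟨e⟩⟩ | ⟨⟨e⟩⟩ | ⟨⟨e⟩⟩ | ⟨⟨e⟩⟩
  · have hF : ∃ a : F, a ≠ 0 ∧ a ≠ 1 := by
      classical
      by_contra hcon
      push Not at hcon
      have h1 : (Finset.univ : Finset F) ⊆ {0, 1} := fun a _ => by
        by_cases ha : a = 0
        · simp [ha]
        · simp [hcon a ha]
      have h2 := Finset.card_le_card h1
      rw [Finset.card_univ] at h2
      have h4 : ({0, 1} : Finset F).card ≤ 2 := Finset.card_le_two
      omega
    have := (Cfsg.Agent.S1055.result hF).1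
    exact OutNil.of_equiv e.symm (OutRgd.outNil_G2 F)
  · have := (Cfsg.Agent.S1054.result (F := F) Cfsg.Lie.chevF4 (by simp)).1
    exact OutNil.of_equiv e.symm (OutRgd.outNil_F4 F)
  · have : Finite ↥(Cfsg.Lie.chevE6.group F) := inferInstance
    exact OutNil.of_equiv e.symm (OutSys.outNil_of_isSLC (KFacts.SLRow.Row.isSLC_E6 F))
  · have : Finite ↥(Cfsg.Lie.chevE7.group F) := inferInstance
    exact OutNil.of_equiv e.symm (OutSys.outNil_of_isSLC (KFacts.SLRow.Row.isSLC_E7 F))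
  · have : Finite ↥(Cfsg.Lie.chevE8.group F) := inferInstance
    exact OutNil.of_equiv e.symm (OutSys.outNil_of_isSLC (KFacts.SLRow.Row.isSLC_E8 F))

end Cfsg.Agent.Omega.Lie.OutT
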